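import Cfsg.Agent.MK.S7.Fi243_m3
import Cfsg.Agent.H895.RG.Pair
import Cfsg.Agent.MK.T.D_m3
import Mathlib.Combinatorics.Enumerative.DoubleCounting
import Cfsg.Agent.MQ.S.E62Y.Dat
import Cfsg.Agent.MQ.S.M35.Loc
import Cfsg.Agent.MQ.A.Glob.Main
import Cfsg.Agent.KFacts.FiTT.AllPairs
import Cfsg.Agent.H277.DM.USix_m3
import Cfsg.Agent.ChevalleyStructure.FieldIso
import Cfsg.Agent.MQ.S.E62S.Out
import Cfsg.Agent.Lib.ListFast
import Cfsg.Agent.FastGrp
import Cfsg.Agent.Prune
set_option linter.all false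
prune_inst 0x7f00000000000000000000000000000000000000000000000000000000000000000000000000000000000000000000000000000000000000000000000000000000000000000000000000000000000000003fffffffffffffffffffffffffffbeffbdfbfeffff
open scoped Cfsg.Agent.FastGrp

-- part: MO/S/U62/Orb
section
/-!
# `2.U₆(2)` in `Fi22` : words, orbits and pairs (helper62)

* `dec`, `eq10`, `bfs` : words in the ten generators of `Fi22 : 2`, the test of equality, orbits as masks;
* `Cj g p h q` : an element of `Fi22 : 2` maps the element `g` to `h` and the point `p` to `q`.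
-/

set_option autoImplicit false
set_option maxRecDepth 100000
set_option exponentiation.threshold 5000

namespace Cfsg.Agent.MO.S.U62

open Cfsg Equiv Cfsg.Agent.H123.Cls Cfsg.Agent.H123.Cls.FiDat Cfsg.Agent.Lib.BitNet
open Cfsg.Agent.Lib.BitNetSimple (force force_eq)
open Cfsg.Agent.H494.F22 (A rho rho_injective S wS wS_cons S_val S_mem_N N_le_A tau_mem_A A_le_Aut exists_aut)
open Cfsg.Agent.H494.F22.Dat (tabs)
open Cfsg.Agent.H494.F22.Row (row)
open Cfsg.Agent.H895.RG.Fi22 (tau tau_rel tau_mem tau_of_rel tau_conj tau_inj nc_aut)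
open Cfsg.Agent.TAB.F22 (fam fam_conj)
open Cfsg.Agent.MK.S6 (fl fl_eq bs qs grow_chk eq_one_of_grow)

/-! ### words -/

/-- the decimal digits below the leading one -/
noncomputable def dec (f : ℕ) : ℕ → List ℕ :=
  Nat.rec (fun _ => []) (fun _ ih n => cnd (Nat.ble n 1) [] (force (Nat.div n 10) fun m => Nat.mod n 10 :: ih m)) f

theorem dec_lt : ∀ (f n : ℕ), ∀ x ∈ dec f n, x < 10
  | 0, _, _, h => absurd h List.not_mem_nil
  | f + 1, n, x, h => by
    change x ∈ cnd (Nat.ble n 1) [] (force (Nat.div n 10) fun m => Nat.mod n 10 :: dec f m) at h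
    rw [force_eq] at h
    cases e : Nat.ble n 1 <;> rw [e] at h
    · rcases List.mem_cons.1 h with rfl | h
      · exact Nat.mod_lt _ (by norm_num)
      · exact dec_lt f _ x h
    · exact absurd h List.not_mem_nil

theorem wS_val : ∀ (w : List ℕ), (∀ x ∈ w, x < 10) → ∀ p : Fin 3510, (wS w p : ℕ) = evw 12 tabs w p
  | [], _, _ => rfl
  | x :: w, h, p => by
    rw [wS_cons, Perm.mul_apply, S_val (h x List.mem_cons_self), evw_cons,
      wS_val w fun y hy => h y (List.mem_cons_of_mem _ hy)]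
    rfl

theorem wS_mem : ∀ (w : List ℕ), (∀ x ∈ w, x < 10) → wS w ∈ A
  | [], _ => one_mem _
  | x :: w, h => by
    rw [wS_cons]
    refine mul_mem ?_ (wS_mem w fun y hy => h y (List.mem_cons_of_mem _ hy))
    rcases Nat.lt_succ_iff_lt_or_eq.1 (h x List.mem_cons_self) with h1 | rfl
    exacts [N_le_A (S_mem_N h1), tau_mem_A]

theorem rho_el : ∀ (w : List ℕ), (∀ x ∈ w, x < 9) → rho (el w) = wS w
  | [], _ => map_one rho
  | x :: w, h => by
    rw [el_cons, map_mul, wS_cons, gn_S (h x List.mem_cons_self), rho_el w fun y hy => h y (List.mem_cons_of_mem _ hy)]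

/-- the test of the equality of two words -/
noncomputable def eq10 (v w : List ℕ) : Bool :=
  fl v fun v => fl w fun w => bs.all fun p => Nat.beq (evw 12 tabs v p) (evw 12 tabs w p)

theorem eq_of_base {a b : Perm (Fin 3510)} (ha : a ∈ A) (hb : b ∈ A) (h : ∀ p : Fin 3510, p.1 ∈ bs → a p = b p) :
    a = b := by
  have h4 : b⁻¹ * a ∈ Aut 3510 row := A_le_Aut (mul_mem (inv_mem hb) ha)
  refine (inv_mul_eq_one.1 (eq_one_of_grow h4 qs bs grow_chk fun p hp => ?_)).symm
  refine Inv.row h4 (p := ⟨p, (by decide : ∀ p ∈ bs, p < 3510) p hp⟩) ?_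
  rw [Perm.mul_apply, Perm.inv_eq_iff_eq]
  exact h _ hp

theorem eq10_ok {v w : List ℕ} (hv : ∀ x ∈ v, x < 10) (hw : ∀ x ∈ w, x < 10) (h : eq10 v w = true) : wS v = wS w := by
  simp only [eq10, fl_eq, List.all_eq_true, Nat.beq_eq] at h
  exact eq_of_base (wS_mem v hv) (wS_mem w hw) fun p hp => Fin.ext (by rw [wS_val v hv, wS_val w hw, h _ hp])

/-- decode a list of words -/
noncomputable def fw {β : Type} (l : List ℕ) : (List (List ℕ) → β) → β :=
  List.rec (fun k => k []) (fun c _ ih k => fl (dec 200 c) fun w => ih fun r => k (w :: r)) l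

theorem fw_eq {β : Type} (l : List ℕ) (k : List (List ℕ) → β) : fw l k = k (l.map (dec 200)) := by
  induction l generalizing k with
  | nil => rfl
  | cons a l ih => exact (fl_eq _ fun w => fw l fun r => k (w :: r)).trans (ih _)

/-! ### orbits -/

/-- the images of a mask -/
noncomputable def img (cs : List (List ℕ)) (F : ℕ) : ℕ → ℕ :=
  List.rec (fun M => M) (fun c _ ih M => force (imM (evw 12 tabs c) 12 0 F M) ih) cs

/-- the mask `M` grows; `F` are the new points -/
noncomputable def bfs (cs : List (List ℕ)) (n : ℕ) : ℕ → ℕ → ℕ :=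
  Nat.rec (fun M _ => M) (fun _ ih M F => cnd (Nat.beq F 0) M
    (force (img cs F M) fun M' => force (Nat.land M' (Nat.xor M' M)) (ih M'))) n

/-- the points of the mask have the property -/
def Sub (P : Fin 3510 → Prop) (M : ℕ) : Prop := ∀ i, M.testBit i = true → ∃ h : i < 3510, P ⟨i, h⟩

section orb

variable {P : Fin 3510 → Prop}

theorem img_sub {F : ℕ} (hF : Sub P F) : ∀ (cs : List (List ℕ)) (M : ℕ),
    (∀ c ∈ cs, (∀ x ∈ c, x < 10) ∧ ∀ q, P q → P (wS c q)) → Sub P M → Sub P (img cs F M)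
  | [], _, _, h => h
  | c :: cs, M, hc, h => by
    rw [show img (c :: cs) F M = img cs F (imM (evw 12 tabs c) 12 0 F M) from force_eq _ _]
    refine img_sub hF cs _ (fun c' h' => hc c' (List.mem_cons_of_mem _ h')) fun j hj => ?_
    rcases (testBit_imM _ _ _ _ _ _).1 hj with h1 | ⟨i, -, h1, h2⟩
    · exact h j h1
    · obtain ⟨h3, h4⟩ := hF i h1
      obtain ⟨h5, h6⟩ := hc c List.mem_cons_self
      rw [zero_add, ← wS_val c h5 ⟨i, h3⟩] at h2
      exact h2 ▸ ⟨_, h6 _ h4⟩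

theorem bfs_sub {cs : List (List ℕ)} (hc : ∀ c ∈ cs, (∀ x ∈ c, x < 10) ∧ ∀ q, P q → P (wS c q)) :
    ∀ (n M F : ℕ), Sub P M → Sub P F → Sub P (bfs cs n M F)
  | 0, _, _, h, _ => h
  | n + 1, M, F, h, hF => by
    change Sub P (cnd (Nat.beq F 0) M (force (img cs F M) fun M' => force (Nat.land M' (Nat.xor M' M)) (bfs cs n M')))
    cases Nat.beq F 0
    · rw [cnd_false, force_eq, force_eq]
      have h1 := img_sub hF cs M hc h
      exact bfs_sub hc n _ _ h1 fun i hi => h1 i (Bool.and_eq_true_iff.1 ((Nat.testBit_and _ _ _).symm.trans hi)).1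
    · exact h

theorem sub_pt {p : Fin 3510} (h : P p) : Sub P (Nat.shiftLeft 1 p) := fun i hi => by
  rw [testBit_one_shift, decide_eq_true_iff] at hi
  exact hi ▸ ⟨p.2, h⟩

end orb

/-! ### pairs -/

theorem inv_app (b : Perm (Fin 3510)) (p : Fin 3510) : b⁻¹ (b p) = p := b.symm_apply_apply p

theorem aut_tau {b : Perm (Fin 3510)} (hb : b ∈ A) {θ : MulAut Spor.Fi22} (h : ∀ g, rho (θ g) = b * rho g * b⁻¹)
    (p : Fin 3510) : tau (b p) = θ (tau p) := by
  refine tau_of_rel (R08.AutT.aut_mem θ (tau_mem p)) fun q => ?_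
  obtain ⟨q, rfl⟩ := b.surjective q
  rw [nc_aut (A_le_Aut hb), tau_rel p q, h, Perm.mul_apply, Perm.mul_apply, inv_app, b.injective.ne_iff]

theorem rho_tau {b : Perm (Fin 3510)} (hb : b ∈ A) (p : Fin 3510) : rho (tau (b p)) = b * rho (tau p) * b⁻¹ := by
  obtain ⟨θ, h⟩ := exists_aut hb
  rw [aut_tau hb h, h]

theorem fix_iff {g : Spor.Fi22} {p : Fin 3510} : rho g p = p ↔ g * tau p = tau p * g := by
  rw [← mul_inv_eq_iff_eq_mul, tau_conj]
  exact ⟨congrArg tau, tau_inj⟩

/-- conjugate pairs -/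
def Cj (g : Spor.Fi22) (p : Fin 3510) (h : Spor.Fi22) (q : Fin 3510) : Prop :=
  ∃ b ∈ A, rho h = b * rho g * b⁻¹ ∧ b p = q

namespace Cj

variable {g h k : Spor.Fi22} {p q r : Fin 3510}

theorem refl (g : Spor.Fi22) (p : Fin 3510) : Cj g p g p := ⟨1, one_mem _, by group, rfl⟩

theorem symm : Cj g p h q → Cj h q g p := fun ⟨b, hb, h1, h2⟩ =>
  ⟨b⁻¹, inv_mem hb, by rw [h1]; group, by rw [← h2, inv_app]⟩

theorem trans : Cj g p h q → Cj h q k r → Cj g p k r := fun ⟨b, hb, h1, h2⟩ ⟨c, hc, h3, h4⟩ =>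
  ⟨c * b, mul_mem hc hb, by rw [h3, h1]; group, by rw [Perm.mul_apply, h2, h4]⟩

theorem fam_eq : Cj g p h q → fam h = fam g := fun ⟨_, hb, h1, _⟩ => fam_conj hb h1

theorem mul : Cj g p h q → Cj (g * tau p) p (h * tau q) q := fun ⟨b, hb, h1, h2⟩ =>
  ⟨b, hb, by rw [map_mul, map_mul, h1, ← h2, rho_tau hb]; group, h2⟩

theorem fix : Cj g p h q → rho g p = p → rho h q = q := fun ⟨b, _, h1, h2⟩ e => by
  rw [h1, ← h2, Perm.mul_apply, Perm.mul_apply, inv_app, e]

theorem conj (m g : Spor.Fi22) (p : Fin 3510) : Cj g p (m * g * m⁻¹) (rho m p) :=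
  ⟨rho m, N_le_A ⟨m, rfl⟩, by rw [map_mul, map_mul, map_inv], rfl⟩

end Cj

end Cfsg.Agent.MO.S.U62
end

-- part: MO/S/U62/Chk
section
/-!
# `2.U₆(2)` in `Fi22` : the data of the 64 classes (helper62)

For each of the 59 representatives : elements of its centralizer in `Fi22 : 2`, whose orbits cover the fixed points.
-/

set_option autoImplicit false
set_option maxRecDepth 100000
set_option exponentiation.threshold 5000

namespace Cfsg.Agent.MO.S.U62

open Cfsg Equiv Subgroup Cfsg.Agent.H123.Cls Cfsg.Agent.H123.Cls.FiDat Cfsg.Agent.Lib.BitNet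
open Cfsg.Agent.Lib.BitNetSimple (force force_eq)
open Cfsg.Agent.H494.F22 (A rho rho_injective S wS wS_append wS_cons wS_nil S_val tau_mem_A tau_sq tau_inv)
open Cfsg.Agent.H494.F22.Dat (tabs)
open Cfsg.Agent.H494.F22.Row (row)
open Cfsg.Agent.H895.RG.Fi22 (tau tau_of_rel trans_pt chkSup rel_of_chk)
open Cfsg.Agent.TAB.F22 (fam ty rp wd fam_spec fam_rp rp_tab ty_card ty_iff dat fin22)
open Cfsg.Agent.MK.S6 (fl fl_eq rho_flip)

/-- the families -/
def iL : List ℕ :=
  [0, 0, 1, 1, 2, 2, 4, 5, 6, 7, 8, 8, 9, 9, 10, 11, 11, 12, 14, 15, 15, 16, 17, 17, 18, 18, 19, 19, 20, 21, 21, 22,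
  22, 23, 23, 24, 25, 26, 27, 28, 30, 31, 32, 33, 33, 34, 38, 39, 40, 41, 42, 42, 43, 44, 44, 46, 47, 49, 50, 51, 51,
  54, 57, 58]

/-- the points -/
def pL : List ℕ :=
  [0, 243, 200, 243, 253, 2667, 0, 221, 1965, 0, 286, 661, 14, 154, 253, 1965, 3189, 215, 256, 12, 736, 63, 243, 1693,
  0, 1911, 222, 91, 244, 1965, 215, 269, 215, 243, 1911, 215, 215, 3224, 243, 1269, 256, 166, 149, 0, 1911, 3189, 12,
  94, 462, 0, 98, 1619, 14, 19, 1601, 377, 256, 252, 690, 46, 186, 1528, 1153, 1965]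

/-- the words which map the point `1965` to the points -/
def uL : List ℕ :=
  [17321087321, 178, 17324, 178, 17, 1732435465732437, 17321087321, 1734, 1, 17321087321, 1732104321,
  17321043215432657324387, 173218732, 1734873, 17, 1, 173210432154326573214325673458732, 173458734, 17345687345,
  1732873, 173210435473210, 1732108, 178, 1732104321543265732143254373458732, 17321087321, 17324354657324378, 1732,
  1732187, 173, 1, 173458734, 173214325437, 173458734, 178, 17324354657324378, 173458734, 173458734,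
  173210432154365473214378, 178, 17321043254657321435, 17345687345, 173214, 1734587, 17321087321, 17324354657324378,
  173210432154326573214325673458732, 1732873, 17321043548, 1732104321543265473210432734, 17321087321, 1732438,
  1732104325436573, 173218732, 1732104325, 17321043215436573214325473210, 1732104321543273210435, 17345687345,
  173456873, 1732143254732, 1732104325437321045, 173210432154373, 17321043215673, 173210432543657321045, 1]

/-- the words which conjugate to the partner -/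
def wL : List ℕ :=
  [14731234565432165021732493125431374321987324312061237843210239,
  12012345645783473821737543860754023459347834502371234543216,
  135961237832143702345123743219067809123473215432073401347081237321021, 13914370234512374321901247382175349,
  163812345734738215634578634573123743212345786123457321, 15421612378321456783456712343215802347302457863457302349,
  131612345734732134578609, 16954563457348023798943285837432, 1479861235734573210134570234576123454321234573,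
  17101234543219432043412345654783210912347321543207347809123473215432073737543687543123783214370234512374321901,
  12123456321021732493125431034573481237321845786802378,
  138612378321437023451237432190612473210374321987324312012346543237843214756234579,
  1372812345478321434578634573412347543212378912347321023912384321, 1856478345736823457347823473823478,
  116123784347382156345731243216, 16523612347321780912347321543207346123578321480137213798,
  16478012345432194320470234512374321906453743812345473218765437543823473854712343573216,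
  16434573423789123473210219602347328, 102801234543219432043412378432145713784321234796,
  116123453214734578123473216345734868234732184567,
  117843702345123743219065780912347321543207371234321634578610347321456423473856123454321756021326,
  139021234565432151245732164534780213278, 102357321601234543219432043412457321847347382349,
  1234612378434738210217324931254310123784342151347321562345762345786234594734,
  118123473210134570683457345671237843210213273, 12834738752345947348023231237321,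
  12486123573216834578634578123457321634572345734765,
  11412345732143702345123743219068563702345123743219060134573062347321845678029,
  178251234565473214567834574328374328743754326, 14215478091234732154320734123215023473,
  1721234564203473214562347312345432123473,
  187609123473215432073412374654321812457323784321475437023451237432190802379,
  137920123454321943204341234213473871234543215234796, 15909123473215432073412374321567345673457312347310,
  14261234573213456723459347834523459478,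
  12123783210912347321543207356784370234512374321906583754368754323473851234321, 174328656457345734023478347,
  175243702345123743219012457321463457863457812345732168437023451237432190345723473218523473856234732186,
  161234543219432043456456780912347321543207348345786013470347123454732180213780912347321543207346561247321,
  156123454321456783473809123473215432073412373216545013457086234781234745432123473854,
  132081237843473821701347023457347, 19043123454783457323473210213478, 134976456013470234578623789123473219347387,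
  1308234565732145783457812347321634730239, 17834573486574328374328743754326,
  138178563702345123743219087123216451034732145642378912347321234791234565432181232186,
  19867809123473215432073786534738456712345421623473,
  14394370234512374321901238732186370234512374321908712321457370213,
  18012345432194320434643702345123743219086512378434738215674801345213942371208342347,
  1514601234543219432047023451237432190657843702345123743219061234543210374321987324312034561,
  11402812345732145634578634573812345645732123473851234321,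
  192012345432194320434123573473821703743219873243120512343217654347812345432182378912347321234732,
  163021234563214570134730234573476512378321451234732102,
  11274812347321456780912347321543207348657345234578623459473423473868,
  176581237843217809123473215432073478612357218345786013470234783457623459473480235745,
  1415912345653473821345734823457347651237832123923473823457,
  14012345643214370234512374321901238732181247382170123454321943204378612347321834572345781237321234578021327845678,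
  1923712345647834573218345736819, 129123456543215673457863457812347832123457347823791234543210213276376,
  12391234564573217438713454321837432345734786123454732123473854789478, 19234565478432134578634573123743218234732456,
  194812345647321737023451237432190871232378432101345703457823473854712345654573216234968,
  10358612378432145602978123454321632043543754368754312345654321472347385612378454321234573476580219,
  1612345457834738210134570682347385476123454578321]

/-- the partners -/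
def rL : List ℕ :=
  [2, 1, 0, 4, 3, 63, 32, 25, 34, 9, 15, 11, 12, 14, 13, 10, 16, 44, 26, 28, 23, 29, 24, 20, 22, 7, 18, 31, 19, 21,
  33, 27, 6, 30, 8, 55, 36, 37, 39, 38, 57, 60, 43, 42, 17, 61, 52, 48, 47, 49, 53, 51, 46, 50, 54, 35, 62, 40, 59,
  58, 41, 45, 56, 5]

/-- the lengths of the orbits -/
def nL : List ℕ :=
  [6, 48, 180, 2, 693, 1, 27, 36, 126, 6, 4, 2, 12, 2, 30, 36, 2, 10, 3, 3, 3, 6, 2, 6, 9, 1, 9, 2, 12, 12, 2, 18, 1,
  45, 1, 3, 2, 2, 6, 6, 3, 6, 2, 3, 1, 1, 2, 2, 2, 3, 1, 2, 6, 9, 2, 1, 1, 1, 2, 3, 1, 1, 1, 3510]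

/-- elements of the centralizers -/
def CS : List (List ℕ) :=
  [[128673478234738237, 16923123456543215645602379534723125431076537234735419],
  [1961812345783473218756347834712354321023473, 1186124732134738543702345712374329202347981234732102376],
  [1281237321029234732175432073486512373217345783476234570343218013780,
  1378123454783214567837023457123743292086537234756237892347312345475732168], [], [178123732143754812374218375432378,
  13281235783214345734823457834512357321646], [15029234732175432073465457345781232164570134570,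
  19385124573214347387560102391237321802349612373218973206812378321], [128612473218753456702379812347321023,
  104123578321780292347321754320734656780], [19865453473872347354],
  [170123456547321780292347321754320734634738123578321234578237612345432123789234732912373218234579],
  [11312345654321476802923473217543207387123432151245732140234712387432183743209120123454321347834751234321,
  15478345780], [167802923473217543207348612357843214573456234732145,
  13208123456783214578123472134562345783456123573218], [11261234564732171034732156239,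
  1208123573216029234732175432073412457321645013457302349], [15, 14896473473872347], [],
  [17281234543217834573234738781234564321], [118251347321, 123454783214578345783472347328], [1612357321434029],
  [18653], [15453457302347, 1012345783214567345736412373218234578345612357321], [1923783457321434572347387,
  1498123478347321345723473812457321], [13545781234712379,
  193760234912345432104348612373473218753457386237890213473723791234521], [1647801,
  1454321437023457123743292086123754], [112345654321023795347231254310871234215347823479,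
  1340685780234912345432104371232164534578123216452347321856], [1564734732347356,
  1254534578123216453457381273214560234735684], [156], [12678029234732175432073465412321673457364234732187],
  [1174345709], [13, 1653456543216029234732175432073461029], [1962547345732,
  1812345643217834738702349123454321043462378923473123454321], [], [114123454783214578345783472345783],
  [1513473218523459], [16961234547832137023473568], [10,
  112123456457321673743687543943208731085123432197432123454321], [], [], [], [],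
  [10478123453210237953472312543108734123573216013457034738123473210], [164570213], [19456012],
  [13212347832145347234578234123573218], [103123456732145678370234571237432920601342134], [17102102,
  14260292347321754320734812373473218756345786123743213457860213273], [17920812373457323473212345703432180137806,
  159612345645783457321345786123732102923473217543207346234756823479812347321345786], [], [], [], [], [], [15451219],
  [143473237], [], [], [], [], [], [], [13945, 1867]]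

/-- the numbers of elements -/
def cL : List ℕ :=
  [62370, 498960, 62370, 693, 693, 1, 197120, 4730880, 118272, 23950080, 5987520, 2993760, 71850240, 11975040,
  11975040, 5987520, 332640, 306561024, 15966720, 127733760, 127733760, 31933440, 42577920, 127733760, 42577920,
  4730880, 15966720, 3548160, 127733760, 31933440, 5322240, 3548160, 197120, 5322240, 118272, 1313832960, 1149603840,
  287400960, 287400960, 287400960, 340623360, 340623360, 919683072, 919683072, 306561024, 1672151040, 383201280,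
  63866880, 63866880, 766402560, 191600640, 383201280, 383201280, 191600640, 42577920, 1313832960, 613122048,
  340623360, 1021870080, 1021870080, 340623360, 1672151040, 613122048, 1]

/-- the family of a class -/
noncomputable def iT (t : ℕ) : ℕ := nth iL t

/-- the class of `x * d` -/
noncomputable def pr (t : ℕ) : ℕ := nth rL t

/-- the point of a class -/
noncomputable def pT (t : ℕ) : Fin 3510 := ⟨Nat.mod (nth pL t) 3510, Nat.mod_lt _ (by norm_num)⟩

/-- the point of the last generator -/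
def P8 : Fin 3510 := ⟨1965, by norm_num⟩

/-- the last generator -/
noncomputable def d : Spor.Fi22 := PresentedGroup.of (gn 8)

private noncomputable def _root_.Cfsg.Agent.LsF.f4e2d01_0 : {f // @Cfsg.Agent.H895.RG.Fi22.chkSup = f} := ⟨_, by first | (delta Cfsg.Agent.H895.RG.Fi22.chkSup; rewrite [Cfsg.Agent.LsF.bxor_eq]; exact rfl) | exact rfl⟩
theorem tau_P8 : tau P8 = d :=
  tau_of_rel (R01.Fi22Facts.gen_mem .i) (rel_of_chk (x := 8) (by norm_num) _ (by ((try (rewrite [Cfsg.Agent.LsF.f4e2d01_0.2])); decide +kernel)))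

/-! ### the checks -/

/-- the partner of a class -/
noncomputable def chkT (t : ℕ) : Bool :=
  fl (dec 200 (nth uL t)) fun u => fl (dec 200 (nth wL t)) fun w => force (pT t) fun p =>
    Nat.beq (evw 12 tabs u 1965) p && Nat.beq (evw 12 tabs w p) (pT (pr t)) && Nat.beq (evw 12 tabs (wd (iT t)) p) p &&
      eq10 (wd (iT (pr t)) ++ (w ++ u)) (w ++ (wd (iT t) ++ (u ++ [8])))

/-- the orbit -/
noncomputable def mask (t : ℕ) : ℕ :=
  fw (CS.getD (iT t) []) fun cs => force (Nat.shiftLeft 1 (pT t)) fun M => bfs cs 60 M M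

/-- the orbits cover a mask -/
noncomputable def go (i : ℕ) (L : List ℕ) : ℕ → Bool :=
  List.rec (fun F => Nat.beq F 0) (fun t _ ih F => cnd (Nat.beq (iT t) i)
    (force (mask t) fun M => band (Nat.beq (popF 12 M) (nth nL t)) (force (Nat.xor F (Nat.land F M)) ih)) (ih F)) L

/-- the orbits of the centralizer of a representative -/
noncomputable def chkI (i : ℕ) : Bool :=
  ((CS.getD i []).all fun c => eq10 (wd i ++ dec 200 c) (dec 200 c ++ wd i)) &&
    force (pwM 3510 12 row 12 (D.getD i (0, 0, [])).1 (false, 1)) (go i (List.range 64))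

/-- `evw 12 tabs` without the intermediate evaluations -/
private noncomputable def evF (l : List ℕ) : ℕ → ℕ :=
  List.rec (fun p => p) (fun x _ ih p => Nat.land (Nat.shiftRight (nth tabs x) (Nat.mul 12 (ih p))) 4095) l

private theorem evw_eq : evw 12 tabs = evF := by
  funext l
  induction l with
  | nil => rfl
  | cons x l ih =>
    funext p
    rw [evw_cons, ih]
    rfl

/-- `imM` on an accumulator which is shifted by 64 bits -/
private noncomputable def imF (f : ℕ → ℕ) (k : ℕ) : ℕ → ℕ → ℕ → ℕ :=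
  Nat.rec (fun b x acc => cnd (Nat.beq (Nat.land x 1) 0) acc
      (force (f b) fun y => Nat.xor (Nat.lor acc (Nat.shiftLeft 1 (Nat.add y 64))) (Nat.land y 4095)))
    (fun k ih b x acc => cnd (Nat.beq x 0) acc
      (force (Nat.mod x (Nat.pow 2 (Nat.pow 2 k))) fun lo => force (Nat.shiftRight x (Nat.pow 2 k)) fun hi =>
        force (Nat.add b (Nat.pow 2 k)) fun b' => force (ih b lo acc) fun acc' => ih b' hi acc')) k

private theorem imF_eq (f : ℕ → ℕ) : ∀ k b x a : ℕ, imF f k b x a >>> 64 = imM f k b x (a >>> 64)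
  | 0, b, x, a => by
    show cnd (Nat.beq (Nat.land x 1) 0) a (force (f b) fun y => (a ||| 1 <<< (y + 64)) ^^^ (y &&& 4095)) >>> 64 =
      cnd (Nat.beq (Nat.land x 1) 0) (a >>> 64) (force (f b) fun y => a >>> 64 ||| 1 <<< y)
    rw [force_eq, force_eq]
    cases Nat.beq (Nat.land x 1) 0
    · rw [cnd_false, cnd_false, Nat.shiftRight_xor_distrib, Nat.shiftRight_or_distrib, Nat.shiftLeft_add,
        Nat.shiftLeft_shiftRight, Nat.shiftRight_eq_zero _ _ (Nat.and_le_right.trans_lt (by decide)), Nat.xor_zero]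
    · rfl
  | k + 1, b, x, a => by
    show cnd (Nat.beq x 0) a
      (force (Nat.mod x (Nat.pow 2 (Nat.pow 2 k))) fun lo => force (Nat.shiftRight x (Nat.pow 2 k)) fun hi =>
        force (Nat.add b (Nat.pow 2 k)) fun b' => force (imF f k b lo a) fun acc' => imF f k b' hi acc') >>> 64 =
      cnd (Nat.beq x 0) (a >>> 64)
      (force (Nat.mod x (Nat.pow 2 (Nat.pow 2 k))) fun lo => force (Nat.shiftRight x (Nat.pow 2 k)) fun hi =>
        force (Nat.add b (Nat.pow 2 k)) fun b' => force (imM f k b lo (a >>> 64)) fun acc' => imM f k b' hi acc')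
    simp only [force_eq]
    cases Nat.beq x 0
    · rw [cnd_false, cnd_false, imF_eq f k, imF_eq f k]
    · rfl

private theorem imM_eq : imM = fun f k b x a => Nat.shiftRight (imF f k b x (Nat.shiftLeft a 64)) 64 := by
  funext f k b x a
  exact ((imF_eq f k b x (a <<< 64)).trans (by rw [Nat.shiftLeft_shiftRight])).symm

/-- the table of the identity -/
private noncomputable def idT : ℕ :=
  Nat.div (Nat.sub (Nat.add (Nat.shiftLeft 3509 42132) 4096) (Nat.shiftLeft 3510 42120)) 16769025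

/-- the lowest bits of the entries -/
private noncomputable def low : ℕ := Nat.div (Nat.shiftLeft 1 42120) 4095

private theorem idT_ok : ∀ p < 3510, lk 12 idT p = p ∧ low.testBit (12 * p) = true := by
  have h : allN (fun p => band (Nat.beq (lk 12 idT p) p) (Nat.beq (Nat.land 1 (Nat.shiftRight low (Nat.mul 12 p))) 1))
      3510 = true := by decide +kernel
  intro p hp
  have h1 := band_eq.1 ((allN_iff _ _).1 h p hp)
  refine ⟨Nat.eq_of_beq_eq_true h1.1, ?_⟩
  have h2 : 1 &&& (low >>> (12 * p)) = 1 := Nat.eq_of_beq_eq_true h1.2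
  rw [Nat.testBit, h2]
  rfl

/-- a mask which contains the fixed points of a table -/
private noncomputable def fixF (P : ℕ) : ℕ :=
  force (Nat.xor P idT) fun X => force (Nat.lor X (Nat.shiftRight X 1)) fun X1 =>
    force (Nat.lor X1 (Nat.shiftRight X1 2)) fun X2 => force
      (Nat.xor low (Nat.land low (Nat.lor X2 (Nat.lor (Nat.shiftRight X2 4) (Nat.shiftRight X2 8))))) fun Z =>
        imM (fun b => Nat.div b 12) 16 0 Z 0

private theorem lk_bit (P p : ℕ) {k : ℕ} (hk : k < 12) : (lk 12 P p).testBit k = P.testBit (12 * p + k) := by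
  show ((P >>> (12 * p)) &&& (2 ^ 12 - 1)).testBit k = _
  rw [Nat.testBit_and, Nat.testBit_shiftRight, Nat.testBit_two_pow_sub_one, decide_eq_true hk, Bool.and_true]

private theorem fix_sub (P j : ℕ) (h : (pwM 3510 12 row 12 P (false, 1)).testBit j = true) : (fixF P).testBit j = true := by
  delta pwM fixM at h
  rw [cnd_false, testBit_bld, Bool.and_eq_true, band_eq, zero_add, it_succ, it_zero] at h
  have h1 : j < 3510 := Nat.blt_eq.to_iff.1 h.2.1
  have h2 : lk 12 P j = lk 12 idT j := (Nat.eq_of_beq_eq_true h.2.2).trans (idT_ok j h1).1.symm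
  have h3 : ∀ k < 12, (P ^^^ idT).testBit (k + 12 * j) = false := fun k hk => by
    rw [add_comm, Nat.testBit_xor, ← lk_bit P j hk, ← lk_bit idT j hk, h2, Bool.xor_self]
  rw [fixF, force_eq, force_eq, force_eq, force_eq, testBit_imM]
  refine Or.inr ⟨12 * j, by omega, ?_, ?_⟩
  · generalize hX : Nat.xor P idT = X
    replace h3 : ∀ k < 12, X.testBit (k + 12 * j) = false := hX ▸ h3
    have h4 : ∀ k < 11, (X ||| X >>> 1).testBit (k + 12 * j) = false := fun k hk => by
      rw [Nat.testBit_or, Nat.testBit_shiftRight, ← add_assoc, h3 k (by omega), h3 _ (by omega), Bool.or_self]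
    generalize hY : Nat.lor X (Nat.shiftRight X 1) = Y
    replace h4 : ∀ k < 11, Y.testBit (k + 12 * j) = false := hY ▸ h4
    have h5 : ∀ k < 9, (Y ||| Y >>> 2).testBit (k + 12 * j) = false := fun k hk => by
      rw [Nat.testBit_or, Nat.testBit_shiftRight, ← add_assoc, h4 k (by omega), h4 _ (by omega), Bool.or_self]
    generalize hZ : Nat.lor Y (Nat.shiftRight Y 2) = Z
    replace h5 : ∀ k < 9, Z.testBit (k + 12 * j) = false := hZ ▸ h5
    have h6 := h5 0 (by omega)
    rw [zero_add] at h6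
    change (low ^^^ (low &&& (Z ||| (Z >>> 4 ||| Z >>> 8)))).testBit (12 * j) = true
    rw [Nat.testBit_xor, Nat.testBit_and, Nat.testBit_or, Nat.testBit_or, Nat.testBit_shiftRight, Nat.testBit_shiftRight,
      h6, h5 4 (by omega), h5 8 (by omega), (idT_ok j h1).2]
    rfl
  · rw [zero_add]
    exact Nat.mul_div_cancel_left j (by omega)

private theorem go_mono (i : ℕ) : ∀ (L : List ℕ) (F G : ℕ), (∀ j, F.testBit j = true → G.testBit j = true) →
    go i L G = true → go i L F = true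
  | [], F, G, h, e => by
    have h1 : G = 0 := Nat.eq_of_beq_eq_true e
    have h2 : F = 0 := Nat.zero_of_testBit_eq_false fun j => Bool.eq_false_iff.2 fun a => by
      have := h j a
      rw [h1, Nat.zero_testBit] at this
      exact Bool.false_ne_true this
    rw [h2]
    rfl
  | t :: L, F, G, h, e => by
    have u : ∀ F, go i (t :: L) F = cnd (Nat.beq (iT t) i) (force (mask t) fun M => band (Nat.beq (popF 12 M) (nth nL t))
      (force (Nat.xor F (Nat.land F M)) (go i L))) (go i L F) := fun _ => rfl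
    rw [u] at e ⊢
    cases hb : Nat.beq (iT t) i <;> rw [hb] at e
    · exact go_mono i L F G h e
    · rw [cnd_true, force_eq, force_eq, band_eq] at e ⊢
      refine ⟨e.1, go_mono i L _ _ (fun j => ?_) e.2⟩
      change (F ^^^ (F &&& mask t)).testBit j = true → (G ^^^ (G &&& mask t)).testBit j = true
      have := h j
      rw [Nat.testBit_xor, Nat.testBit_xor, Nat.testBit_and, Nat.testBit_and]
      revert this
      cases F.testBit j <;> cases G.testBit j <;> cases (mask t).testBit j <;> decide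

/-- `chkI` with the faster mask -/
private noncomputable def chkJ (i : ℕ) : Bool :=
  ((CS.getD i []).all fun c => eq10 (wd i ++ dec 200 c) (dec 200 c ++ wd i)) &&
    force (fixF (D.getD i (0, 0, [])).1) (go i (List.range 64))

private theorem chkI_of {a b : ℕ} (h : ∀ i < b, chkJ (a + i) = true) : ∀ i < b, chkI (a + i) = true := fun i hi => by
  have h1 := h i hi
  rw [chkJ, force_eq, Bool.and_eq_true] at h1
  rw [chkI, force_eq, Bool.and_eq_true]
  exact ⟨h1.1, go_mono _ _ _ _ (fix_sub _) h1.2⟩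

theorem lt_add {P : ℕ → Prop} (a : ℕ) {b : ℕ} (h : ∀ t < a, P t) (h' : ∀ t < b, P (a + t)) : ∀ t < a + b, P t :=
  fun t ht => (Nat.lt_or_ge t a).elim (h t) fun e => Nat.add_sub_cancel' e ▸ h' (t - a) (by omega)

private noncomputable def _root_.Cfsg.Agent.LsF.f4e2d01_1 : {f // @Cfsg.Agent.TAB.F22.wd = f} := ⟨_, by first | (delta Cfsg.Agent.TAB.F22.wd; rewrite [Cfsg.Agent.LsF.lappend_pat, Cfsg.Agent.LsF.map_eq, Cfsg.Agent.LsF.reverse_eq, Cfsg.Agent.LsF.getD_eq]; exact rfl) | exact rfl⟩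
theorem chkT_ok : ∀ t < 64, chkT t = true := by
  delta chkT eq10
  rewrite [evw_eq]
  (refine of_decide_eq_true ?_; (try (rewrite [Cfsg.Agent.LsF.f4e2d01_1.2, Cfsg.Agent.LsF.lappend_pat, Cfsg.Agent.LsF.and_eq, Cfsg.Agent.LsF.all_eq, Cfsg.Agent.LsF.dBoolEq_eq, Cfsg.Agent.LsF.dBallLT_eq, Cfsg.Agent.LsF.decide_eq])); decide +kernel)

theorem chkI_ok : ∀ i < 59, chkI i = true :=
  lt_add (b := 1) 58 (lt_add (b := 54) 4 (lt_add (b := 4) 0 (fun _ h => absurd h (Nat.not_lt_zero _))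
  (chkI_of (a := 0) (b := 4) (by
    delta chkJ fixF go mask bfs img eq10
    rewrite [evw_eq, imM_eq]
    decide +kernel)))
  (chkI_of (a := 4) (b := 54) (by
    delta chkJ fixF go mask bfs img eq10
    rewrite [evw_eq, imM_eq]
    decide +kernel)))
  (chkI_of (a := 58) (b := 1) (by
    delta chkJ fixF go mask bfs img eq10
    rewrite [evw_eq, imM_eq]
    decide +kernel))

theorem lt_ok : ∀ t < 64, iT t < 59 ∧ pr t < 64 ∧ dat.cnt ((iT t + 1) % 59) * nth nL t = 3510 * nth cL t := by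
  decide +kernel

theorem inj_ok : ∀ s < 64, ∀ t < 64, iT s = iT t → iT (pr s) = iT (pr t) → s = t := by (refine of_decide_eq_true ?_; (try (rewrite [Cfsg.Agent.LsF.instDecEq_eq, Cfsg.Agent.LsF.dBallLT_eq, Cfsg.Agent.LsF.dAllP_eq, Cfsg.Agent.LsF.decide_eq])); decide +kernel)

end Cfsg.Agent.MO.S.U62
end

-- part: MO/S/U62/Cls
section
/-!
# `2.U₆(2)` in `Fi22` : the 64 classes under `2.U₆(2).2` (helper62)

`X` is the centralizer of the transposition `d` of the point `P8`.  The classes of `X` under the stabilizer of `P8` in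
`Fi22 : 2` correspond to the orbits of the centralizers of the 59 representatives on their fixed points.

* `ix` : the number of the class; `ty_ix`, `ix_mul`, `card_ix`, `sum_ix`, `cases_ix`;
* `ga` : the automorphism which is induced by the flip.
-/

set_option autoImplicit false
set_option maxRecDepth 100000
set_option exponentiation.threshold 5000

namespace Cfsg.Agent.MO.S.U62

open Cfsg Equiv Subgroup Cfsg.Agent.H123.Cls Cfsg.Agent.H123.Cls.FiDat Cfsg.Agent.Lib.BitNet
open Cfsg.Agent.Lib.BitNetSimple (force force_eq)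
open Cfsg.Agent.H494.F22 (A rho rho_injective S wS wS_append wS_cons wS_nil S_val tau_mem_A tau_sq tau_inv)
open Cfsg.Agent.H494.F22.Dat (tabs)
open Cfsg.Agent.H494.F22.Row (row)
open Cfsg.Agent.H895.RG.Fi22 (tau tau_of_rel trans_pt chkSup rel_of_chk)
open Cfsg.Agent.TAB.F22 (fam ty rp wd fam_spec fam_rp rp_tab ty_card ty_iff dat fin22)
open Cfsg.Agent.MK.S6 (fl fl_eq rho_flip)
open Cfsg.Agent.H833.Flip (flipA flipA_gen flipA_flipA)

theorem wd_lt {i : ℕ} (hi : i < 59) : ∀ x ∈ wd i, x < 9 :=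
  chkL_iff _ _ ((by decide +kernel : ∀ i < 59, chkL 9 (wd i) = true) i hi)

theorem wd_lt' {i : ℕ} (hi : i < 59) : ∀ x ∈ wd i, x < 10 := fun x h => (wd_lt hi x h).trans (by norm_num)

theorem rho_rp {i : ℕ} (hi : i < 59) : rho (rp i) = wS (wd i) := rho_el _ (wd_lt hi)

theorem typ {t : ℕ} (ht : t < 64) : rho (rp (iT t)) (pT t) = pT t ∧
    Cj (rp (iT t) * tau (pT t)) (pT t) (rp (iT (pr t))) (pT (pr t)) := by
  have h := chkT_ok t ht
  simp only [chkT, fl_eq, force_eq, Bool.and_eq_true, Nat.beq_eq] at h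
  obtain ⟨⟨⟨h1, h2⟩, h3⟩, h4⟩ := h
  have hi := (lt_ok t ht).1
  have hj := (lt_ok _ (lt_ok t ht).2.1).1
  have hu := dec_lt 200 (nth uL t)
  have hw := dec_lt 200 (nth wL t)
  generalize dec 200 (nth uL t) = u at *
  generalize dec 200 (nth wL t) = w at *
  have h5 := eq10_ok (List.forall_mem_append.2 ⟨wd_lt' hj, List.forall_mem_append.2 ⟨hw, hu⟩⟩)
    (List.forall_mem_append.2 ⟨hw, List.forall_mem_append.2 ⟨wd_lt' hi, List.forall_mem_append.2 ⟨hu, by decide⟩⟩⟩) h4
  have h6 : wS u P8 = pT t := Fin.ext ((wS_val u hu P8).trans h1)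
  simp only [wS_append, ← rho_rp hi, ← rho_rp hj, wS_cons, wS_nil, mul_one] at h5
  refine ⟨Fin.ext (by rw [rho_rp hi, wS_val _ (wd_lt' hi), h3]), wS w, wS_mem w hw, ?_,
    Fin.ext ((wS_val w hw _).trans h2)⟩
  rw [map_mul, ← h6, rho_tau (wS_mem u hu), tau_P8, d, gn_S (by norm_num), eq_mul_inv_of_mul_eq h5]
  group

theorem go_spec (i : ℕ) : ∀ (L : List ℕ) (F : ℕ), go i L F = true →
    (∀ t ∈ L, iT t = i → popF 12 (mask t) = nth nL t) ∧
      ∀ q, F.testBit q = true → ∃ t ∈ L, iT t = i ∧ (mask t).testBit q = true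
  | [], F, h => ⟨fun _ h => absurd h List.not_mem_nil, fun q hq => by
      rw [Nat.eq_of_beq_eq_true h, Nat.zero_testBit] at hq
      cases hq⟩
  | t :: L, F, h => by
    change cnd (Nat.beq (iT t) i) (force (mask t) fun M => band (Nat.beq (popF 12 M) (nth nL t))
      (force (Nat.xor F (Nat.land F M)) (go i L))) (go i L F) = true at h
    cases e : Nat.beq (iT t) i <;> rw [e] at h
    · obtain ⟨h1, h2⟩ := go_spec i L F h
      exact ⟨List.forall_mem_cons.2 ⟨fun h3 => absurd h3 (Nat.ne_of_beq_eq_false e), h1⟩,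
        fun q hq => (h2 q hq).imp fun _ h => ⟨List.mem_cons_of_mem _ h.1, h.2⟩⟩
    · rw [cnd_true, force_eq, band_eq, force_eq] at h
      obtain ⟨h1, h2⟩ := go_spec i L _ h.2
      refine ⟨List.forall_mem_cons.2 ⟨fun _ => Nat.eq_of_beq_eq_true h.1, h1⟩, fun q hq => ?_⟩
      cases e' : (mask t).testBit q
      · exact (h2 q ((Nat.testBit_xor _ _ _).trans (by
          rw [hq, show (Nat.land F (mask t)).testBit q = _ from Nat.testBit_and _ _ _, hq, e']; rfl))).imp
          fun _ h => ⟨List.mem_cons_of_mem _ h.1, h.2⟩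
      · exact ⟨t, List.mem_cons_self, Nat.eq_of_beq_eq_true e, e'⟩

theorem chkI_spec {i : ℕ} (hi : i < 59) : (∀ c ∈ CS.getD i [], rho (rp i) = wS (dec 200 c) * rho (rp i) * (wS (dec 200 c))⁻¹) ∧
    (∀ t < 64, iT t = i → popF 12 (mask t) = nth nL t) ∧
      ∀ q, rho (rp i) q = q → ∃ t < 64, iT t = i ∧ (mask t).testBit q = true := by
  have h := chkI_ok i hi
  simp only [chkI, force_eq, Bool.and_eq_true, List.all_eq_true] at h
  obtain ⟨h1, h2⟩ := go_spec _ _ _ h.2
  refine ⟨fun c hc => ?_, fun t ht => h1 t (List.mem_range.2 ht), fun q hq => ?_⟩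
  · have h3 := eq10_ok (List.forall_mem_append.2 ⟨wd_lt' hi, dec_lt _ _⟩)
      (List.forall_mem_append.2 ⟨dec_lt _ _, wd_lt' hi⟩) (h.1 c hc)
    rw [wS_append, wS_append, ← rho_rp hi] at h3
    exact eq_mul_inv_of_mul_eq h3
  · have hi' : i < D.length := hi
    rw [List.getD_eq_getElem _ _ hi'] at h2
    exact (h2 q ((testBit_pwM (by norm_num) (rp_tab hi') (false, 1) q).2
      (show (rho (rp i) ^ 1) q = q by rwa [pow_one]))).imp fun _ h => ⟨List.mem_range.1 h.1, h.2⟩

theorem mask_sub {t : ℕ} (ht : t < 64) : Sub (fun q => Cj (rp (iT t)) q (rp (iT t)) (pT t)) (mask t) := by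
  rw [mask, fw_eq, force_eq]
  exact bfs_sub (P := fun q => Cj (rp (iT t)) q (rp (iT t)) (pT t)) (List.forall_mem_map.2 fun c hc => ⟨dec_lt _ _,
    fun q h => Cj.trans (Cj.symm ⟨_, wS_mem _ (dec_lt _ _), (chkI_spec (lt_ok t ht).1).1 c hc, rfl⟩) h⟩) _ _ _
    (sub_pt (Cj.refl _ _)) (sub_pt (Cj.refl _ _))

/-! ### the classes of pairs -/

theorem exists_cl {g : Spor.Fi22} {p : Fin 3510} (h : rho g p = p) : ∃ t < 64, Cj g p (rp (iT t)) (pT t) := by
  obtain ⟨hi, b, hb, e⟩ := fam_spec g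
  have h1 : Cj (rp (fam g)) (b⁻¹ p) g p := ⟨b, hb, e, b.apply_symm_apply p⟩
  obtain ⟨t, ht, h2, h3⟩ := (chkI_spec hi).2.2 _ (h1.symm.fix h)
  exact ⟨t, ht, h1.symm.trans (h2 ▸ (mask_sub ht _ h3).2)⟩

theorem cl_fam {g : Spor.Fi22} {p : Fin 3510} {t : ℕ} (ht : t < 64) (h : Cj g p (rp (iT t)) (pT t)) : fam g = iT t :=
  h.fam_eq.symm.trans (fam_rp (lt_ok t ht).1)

theorem cl_uniq {g : Spor.Fi22} {p : Fin 3510} {s t : ℕ} (hs : s < 64) (ht : t < 64) (h : Cj g p (rp (iT s)) (pT s))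
    (h' : Cj g p (rp (iT t)) (pT t)) : s = t :=
  inj_ok s hs t ht ((cl_fam hs h).symm.trans (cl_fam ht h'))
    ((cl_fam (lt_ok s hs).2.1 (h.mul.trans (typ hs).2)).symm.trans (cl_fam (lt_ok t ht).2.1 (h'.mul.trans (typ ht).2)))

theorem mem_mask {t : ℕ} (ht : t < 64) (q : Fin 3510) : q ∈ pts 3510 (mask t) ↔ Cj (rp (iT t)) q (rp (iT t)) (pT t) := by
  rw [mem_pts]
  refine ⟨fun h => (mask_sub ht _ h).2, fun h => ?_⟩
  obtain ⟨s, hs, h1, h2⟩ := (chkI_spec (lt_ok t ht).1).2.2 q (h.symm.fix (typ ht).1)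
  exact cl_uniq hs ht (h1 ▸ (mask_sub hs _ h2).2) h ▸ h2

theorem count {t : ℕ} (ht : t < 64) : Nat.card {g : Spor.Fi22 // Cj g P8 (rp (iT t)) (pT t)} = nth cL t := by
  classical
  have := fin22
  have := Fintype.ofFinite Spor.Fi22
  obtain ⟨hi, -, h0⟩ := lt_ok t ht
  have ha : ∀ g, ty g = (iT t + 1) % 59 ↔ fam g = iT t := fun g => by
    rw [ty_iff (Nat.mod_lt _ (by norm_num)), show ((iT t + 1) % 59 + 58) % 59 = iT t by omega]
  have h := Finset.card_mul_eq_card_mul (s := Finset.univ.filter fun g => ty g = (iT t + 1) % 59) (t := Finset.univ)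
    (fun g q => Cj g q (rp (iT t)) (pT t)) (m := nth nL t)
    (n := (Finset.univ.filter fun g => Cj g P8 (rp (iT t)) (pT t)).card) (fun g hg => ?_) fun q _ => ?_
  · rw [← Fintype.card_subtype, ← Nat.card_eq_fintype_card, ty_card (Nat.mod_lt _ (by norm_num)), h0, Finset.card_univ,
      Fintype.card_fin, ← Fintype.card_subtype, ← Nat.card_eq_fintype_card] at h
    exact (Nat.eq_of_mul_eq_mul_left (by norm_num) h).symm
  · obtain ⟨-, b, hb, e⟩ := fam_spec g
    rw [(ha g).1 (Finset.mem_filter.1 hg).2] at e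
    rw [← (chkI_spec hi).2.1 t ht rfl, popF_eq,
      le_antisymm (card_pts_eq (n := 3510) fun i h => (mask_sub ht i h).1) (card_pts_le (by norm_num) _)]
    refine (Finset.card_equiv b fun q => ?_).symm
    rw [mem_mask ht, Finset.mem_bipartiteAbove, and_iff_right (Finset.mem_univ _)]
    have h1 : Cj (rp (iT t)) q g (b q) := ⟨b, hb, e, rfl⟩
    exact ⟨h1.symm.trans, h1.trans⟩
  · obtain ⟨m, rfl⟩ := trans_pt P8 q
    refine (Finset.card_equiv (MulAut.conj m).toEquiv fun g => ?_).symm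
    rw [Finset.mem_bipartiteBelow, Finset.mem_filter, Finset.mem_filter, and_iff_right (Finset.mem_univ _),
      and_iff_right (Finset.mem_univ _), ha]
    have h1 := Cj.conj m g P8
    exact ⟨fun h => ⟨cl_fam ht (h1.symm.trans h), h1.symm.trans h⟩, fun h => h1.trans h.2⟩

/-! ### the centralizer -/

/-- the centralizer of the transposition -/
abbrev X : Subgroup Spor.Fi22 := centralizer {d}

theorem mem_X {g : Spor.Fi22} : g ∈ X ↔ rho g P8 = P8 := by rw [mem_centralizer_singleton_iff, fix_iff, tau_P8]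

/-- the central involution -/
noncomputable def z : X := ⟨d, mem_centralizer_singleton_iff.2 rfl⟩

theorem z_mem : z ∈ center X := mem_center_iff.2 fun g => Subtype.ext (mem_centralizer_singleton_iff.1 g.2)

theorem zz : z * z = 1 := Subtype.ext (gn_sq 8)

/-- the number of the class -/
noncomputable def ix (x : X) : ℕ := (exists_cl (mem_X.1 x.2)).choose

theorem ix_lt (x : X) : ix x < 64 := (exists_cl (mem_X.1 x.2)).choose_spec.1

theorem ix_spec (x : X) : Cj x P8 (rp (iT (ix x))) (pT (ix x)) := (exists_cl (mem_X.1 x.2)).choose_spec.2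

theorem ix_eq {x : X} {t : ℕ} (ht : t < 64) (h : Cj x P8 (rp (iT t)) (pT t)) : ix x = t :=
  cl_uniq (ix_lt x) ht (ix_spec x) h

theorem ix_of_cj {x y : X} (h : Cj x P8 y P8) : ix x = ix y := ix_eq (ix_lt y) (h.trans (ix_spec y))

theorem ix_mul (x : X) : ix (x * z) = pr (ix x) :=
  ix_eq (lt_ok _ (ix_lt x)).2.1 (Cj.trans (tau_P8 ▸ (ix_spec x).mul :) (typ (ix_lt x)).2)

theorem ty_ix (x : X) : ty x = (iT (ix x) + 1) % 59 := by rw [ty, cl_fam (ix_lt x) (ix_spec x)]

theorem ix_conj (m x : X) : ix (m * x * m⁻¹) = ix x := (ix_of_cj (mem_X.1 m.2 ▸ Cj.conj m x P8 :)).symm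

theorem card_ix {t : ℕ} (ht : t < 64) : Nat.card {x : X // ix x = t} = nth cL t := by
  rw [← count ht]
  exact Nat.card_congr ⟨fun x => ⟨x.1, by have h := ix_spec x.1; rwa [x.2] at h⟩,
    fun g => ⟨⟨g.1, mem_X.2 (g.2.symm.fix (typ ht).1)⟩, ix_eq ht g.2⟩, fun _ => rfl, fun _ => rfl⟩

theorem sum_ix [Fintype X] {M : Type} [AddCommMonoid M] (F : ℕ → M) :
    ∑ x : X, F (ix x) = ∑ t ∈ Finset.range 64, nth cL t • F t := by
  classical
  rw [← Finset.sum_fiberwise_of_maps_to (s := Finset.univ) (t := Finset.range 64) (g := ix)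
    (fun g _ => Finset.mem_range.2 (ix_lt g))]
  refine Finset.sum_congr rfl fun t ht => ?_
  rw [Finset.sum_congr rfl (g := fun _ => F t) fun g hg => by rw [(Finset.mem_filter.1 hg).2], Finset.sum_const,
    ← card_ix (Finset.mem_range.1 ht), Nat.card_eq_fintype_card, Fintype.card_subtype]

theorem finX : Finite X :=
  have := fin22
  inferInstance

theorem card_X : Nat.card X = 18393661440 := by
  have := finX
  have := Fintype.ofFinite X
  rw [Nat.card_eq_fintype_card, ← Finset.card_univ, Finset.card_eq_sum_ones, sum_ix fun _ => 1]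
  decide +kernel

theorem exists_ix {t : ℕ} (ht : t < 64) : ∃ x, ix x = t := by
  have h := card_ix ht
  rw [← (by decide +kernel : ∀ t < 64, nth cL t - 1 + 1 = nth cL t) t ht] at h
  exact (Nat.card_pos_iff.1 ((Nat.succ_pos _).trans_eq h.symm)).1.elim fun x => ⟨x.1, x.2⟩

/-! ### the flip -/

theorem flip_d : flipA d = d := flipA_gen .i

/-- the automorphism of `X` -/
noncomputable def ga : MulAut X := MK.T.res X flipA fun x => by
  rw [mem_centralizer_singleton_iff, mem_centralizer_singleton_iff, ← flipA.injective.eq_iff (a := x * d), map_mul,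
    map_mul, flip_d]

theorem flip_P8 : H494.F22.tau P8 = P8 := Fin.ext ((S_val (by norm_num) P8).trans (by decide +kernel))

theorem ix_ga (x : X) : ix (ga x) = ix x := (ix_of_cj ⟨_, tau_mem_A, rho_flip x, flip_P8⟩).symm

/-- elements with the same number -/
theorem cases_ix {x y : X} (h : ix x = ix y) : ∃ m : X, y = m * x * m⁻¹ ∨ y = m * ga x * m⁻¹ := by
  obtain ⟨b, hb, h1, h2⟩ := (ix_spec x).trans (h ▸ (ix_spec y).symm)
  rcases H878.EPX.FiK.A_le hb with ⟨n, hn⟩ | ⟨n, hn⟩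
  · subst hn
    exact ⟨⟨n, mem_X.2 h2⟩, Or.inl (Subtype.ext (rho_injective (by rw [h1, ← map_inv, ← map_mul, ← map_mul]; rfl)))⟩
  · refine ⟨⟨n, mem_X.2 (by rw [hn, Perm.mul_apply, flip_P8, h2])⟩, Or.inr (Subtype.ext (rho_injective ?_))⟩
    change _ = rho (n * flipA x * n⁻¹)
    rw [h1, map_mul, map_mul, map_inv, hn, rho_flip, ← mul_assoc, ← mul_assoc, mul_assoc b H494.F22.tau, tau_sq,
      mul_inv_rev, tau_inv, mul_one, mul_assoc _ H494.F22.tau, ← mul_assoc H494.F22.tau, tau_sq, one_mul]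

end Cfsg.Agent.MO.S.U62
end

-- part: MO/S/U62/Tab
section
/-!
# `2.U₆(2)` : the faithful characters (helper62)

The odd parts of the restrictions of the virtual characters of `Fi22`, and one product, give 27 orthogonal rows.

* `kk_X` : `18` faithful characters have `3'`-degree; `fA_X` : `12` of them are fixed by the flip.
-/

set_option autoImplicit false
set_option maxRecDepth 100000

namespace Cfsg.Agent.MO.S.U62

open Cfsg Finset Subgroup Cfsg.Agent.TAB.Eng Cfsg.Agent.Characters Cfsg.Agent.Characters.Core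
open Cfsg.Agent.Characters.Brauer Cfsg.Agent.H447.CTab Cfsg.Agent.MO.S.Cov2
open Cfsg.Agent.TAB.F22 (td rowA rowB)
open scoped ComplexConjugate

section gen

variable {G : Type} [Group G] [Fintype G]

/-- the odd part -/
theorem gen_odd {c : G} (hz : c ∈ center G) (h2 : c * c = 1) {f : G → ℂ} (hf : IsGeneralizedCharacter G f) :
    IsGeneralizedCharacter G fun x => (f x - f (c * x)) / 2 := by
  refine isGeneralizedCharacter_of_int (fun g h => ?_) fun χ hχ => ?_
  · have h1 : c * (h * g * h⁻¹) = h * (c * g) * h⁻¹ := by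
      rw [← mul_assoc h c, mem_center_iff.1 hz h]
      simp only [mul_assoc]
    simp only [h1, gen_classFunction hf _ h]
  obtain ⟨a, hc, hc1, -⟩ := ODD.Red.exists_central hχ hz
  obtain ⟨n, hn⟩ := exists_mu hf ⟨χ, hχ⟩
  have h3 := MK.S7.inner_shift f hc
  rw [show (fun x => (f x - f (c * x)) / 2) = (2⁻¹ : ℂ) • (f - fun x => f (c * x)) from funext fun x => by
    simp [div_eq_inv_mul], classInner_smul_left, classInner_sub_left]
  rcases mul_self_eq_one_iff.1 ((pow_two a).symm.trans (hc1 2 ((pow_two c).trans h2))) with rfl | rfl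
  · rw [map_one, one_mul] at h3
    exact ⟨0, by rw [← h3, sub_self, mul_zero, Int.cast_zero]⟩
  · rw [map_neg, map_one, neg_one_mul] at h3
    exact ⟨n, by rw [← hn]; linear_combination (-2⁻¹ : ℂ) * h3⟩

/-- the separation by the sum of the degrees -/
theorem sep_sum {f g : G → ℂ} (hf : IsGeneralizedCharacter G f) (h2 : classInner f f = 2) (h3 : classInner g g = 2)
    (h4 : classInner f g = 0) {a b : ℤ} (ha : f 1 = a) (hb : g 1 = b) (h1 : ¬ a + b ∣ 2 * Nat.card G) (χ : IrrCharacter G)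
    (s c : ℤ) (hs : s = 1 ∨ s = -1) (hc : c = 1 ∨ c = -1) : ¬ ∀ x, f x + s * g x = 2 * c * (χ : G → ℂ) x := fun h => by
  have key : ∀ (ψ : IrrCharacter G) (e : ℤ), (e = 1 ∨ e = -1) → (a : ℂ) + b ≠ 2 * e * (ψ : G → ℂ) 1 := fun ψ e he h5 => by
    obtain ⟨d, -, h9, t, h10⟩ := degree_dvd ψ
    rw [h9] at h5
    have h12 : a + b = 2 * e * d := by exact_mod_cast h5
    exact h1 ⟨e * t, by
      rw [h12, h10]
      rcases he with rfl | rfl <;> push_cast <;> ring⟩
  rcases hs with rfl | rfl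
  · exact key χ c hc (by rw [← h 1, ha, hb, Int.cast_one, one_mul])
  have h5 : f - (fun _ => (c : ℂ)) * (χ : G → ℂ) = (2⁻¹ : ℂ) • (f + g) := funext fun x => by
    have h5 := h x
    simp only [Pi.sub_apply, Pi.mul_apply, Pi.smul_apply, Pi.add_apply, smul_eq_mul]
    push_cast at h5
    linear_combination (2⁻¹ : ℂ) * h5
  have h6 := isGeneralizedCharacter_sub hf (isGeneralizedCharacter_mul (gen_const G c)
    (isGeneralizedCharacter_of_isCharacter (isIrr_isCharacter χ.2)))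
  rw [h5] at h6
  rcases isIrr_of_generalized h6 (by
    rw [classInner_smul_left, classInner_smul_right, classInner_add_left, classInner_add_right, classInner_add_right,
      ← classInner_conj_symm f g, h2, h3, h4, map_zero, map_inv₀, map_ofNat]
    norm_num) with h7 | h7
  · exact key ⟨_, h7⟩ 1 (Or.inl rfl) (by simp [ha, hb])
  · exact key ⟨_, h7⟩ (-1) (Or.inr rfl) (by simp only [ha, hb, _root_.Int.reduceNeg, _root_.Int.cast_neg, _root_.Int.cast_one, _root_.mul_neg, _root_.mul_one, _root_.smul_add, _root_.Pi.neg_apply, _root_.Pi.add_apply, _root_.Pi.smul_apply, _root_.smul_eq_mul, _root_.neg_add_rev, _root_.neg_mul]; ring)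

end gen

/-- four columns -/
noncomputable def C0 : List (List ℤ) :=
  [[-8, -16, -24, -40, -48, -32, -56, -88, -48, -96, -128, 0, -32, -24, 160, -80, -120, 32, 64, -56, -96, 0, 64, -64,
  -96, 192, 128], [0, 0, 0, 0, 0, 0, 0, 0, 0, 0, 0, 0, 0, 0, 0, 0, 0, 0, 0, 0, 0, 0, 0, 0, 0, 0, 0], [8, 16, 24, 40,
  48, 32, 56, 88, 48, 96, 128, 0, 32, 24, -160, 80, 120, -32, -64, 56, 96, 0, -64, 64, 96, -192, -128], [24, -16, 136,
  120, -240, 416, 40, 456, -560, 864, -384, 1024, 800, -1080, 480, 240, -216, 1056, 320, -1560, 1440, 0, -960, -960,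
  -1120, -960, 640]]

/-- four columns -/
noncomputable def C1 : List (List ℤ) :=
  [[-24, 16, -136, -120, 240, -416, -40, -456, 560, -864, 384, -1024, -800, 1080, -480, -240, 216, -1056, -320, 1560,
  -1440, 0, 960, 960, 1120, 960, -640], [-56, -176, -616, -792, -1232, -2464, -3080, -5544, -6160, -7776, -9856,
  -11264, -12320, -13608, -15840, -18480, -21384, -22176, -24640, -27720, -30240, -32768, -44352, -6720, -12320,
  -24640, -49280], [2, 14, 22, -18, -10, -20, -52, 36, 58, 0, 28, 32, 8, 0, -36, 66, 0, -18, 124, 18, -54, -64, -36,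
  24, -100, 16, 32], [2, 5, 4, 9, 8, -2, 11, 9, 13, 0, 10, -4, 8, 0, 18, -6, 0, -18, 7, -9, 0, 8, -9, -12, 8, 16, -4]]

/-- four columns -/
noncomputable def C2 : List (List ℤ) :=
  [[11, -4, 31, 9, 44, 79, -25, 9, 40, 81, -44, 104, 35, 81, 45, -60, -81, 36, -20, 45, 0, -64, -36, 150, 80, 70,
  -40], [0, 0, 0, 0, 0, 0, 0, 0, 0, 0, 0, 0, 0, 0, 0, 0, 0, 0, 0, 0, 0, 0, 0, 0, 0, 0, 0], [-4, -8, 4, -4, -8, 0, -12,
  -12, 8, 0, 0, 0, 0, -12, 0, 8, -12, -16, 0, 4, 16, 0, 0, 0, 16, 0, 0], [0, 0, 0, 0, 0, 0, 0, 0, 0, 0, 0, 0, 0, 0, 0,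
  0, 0, 0, 0, 0, 0, 0, 0, 0, 0, 0, 0]]

/-- four columns -/
noncomputable def C3 : List (List ℤ) :=
  [[0, 0, 0, 0, 0, 0, 0, 0, 0, 0, 0, 0, 0, 0, 0, 0, 0, 0, 0, 0, 0, 0, 0, 0, 0, 0, 0], [4, 0, 4, 4, -8, 8, -4, 4, 0, 8,
  0, 0, -8, -4, -8, -8, 4, 0, 0, 4, 0, 0, 0, -16, 0, 16, 0], [-4, 0, -4, -4, 8, -8, 4, -4, 0, -8, 0, 0, 8, 4, 8, 8,
  -4, 0, 0, -4, 0, 0, 0, 16, 0, -16, 0], [4, 8, -4, 4, 8, 0, 12, 12, -8, 0, 0, 0, 0, 12, 0, -8, 12, 16, 0, -4, -16, 0,
  0, 0, -16, 0, 0]]

/-- four columns -/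
noncomputable def C4 : List (List ℤ) :=
  [[0, 0, 0, 0, 0, 0, 0, 0, 0, 0, 0, 0, 0, 0, 0, 0, 0, 0, 0, 0, 0, 0, 0, 0, 0, 0, 0], [1, 1, 1, 2, 2, -1, 0, -1, 0, 1,
  1, -1, 0, -2, 0, 0, -1, 1, 0, 0, 0, -2, 2, 0, 0, 0, 0], [-2, 2, -6, 2, -6, 4, 4, -4, 6, 0, 4, 0, -8, 0, 4, -2, 0, 2,
  4, -2, 6, 0, 4, 8, -12, 0, -16], [0, -3, 0, 3, 0, 0, 3, -3, -3, 0, 0, 0, 0, 0, 0, 0, 0, 0, 3, 3, 0, 0, -3, 0, 0, 0,
  0]]

/-- four columns -/
noncomputable def C5 : List (List ℤ) :=
  [[-2, -1, 0, -1, 0, -2, 1, -1, 3, 0, -2, 0, 4, 0, -2, -2, 0, 2, 1, 1, 0, 0, 1, -4, 0, 0, -4], [1, -4, -3, -1, 0, 1,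
  1, -1, 0, 3, 4, 0, 1, 3, -5, -8, -3, -4, 4, -5, 0, 0, 4, 2, 0, -6, 8], [0, -1, 4, -3, 0, -4, 1, 3, -5, 0, 0, 4, -4,
  0, 0, 0, 0, 0, 5, -3, 0, 0, 3, 0, 8, 0, -8], [2, 1, 0, 1, 0, 2, -1, 1, -3, 0, 2, 0, -4, 0, 2, 2, 0, -2, -1, -1, 0,
  0, -1, 4, 0, 0, 4]]

/-- four columns -/
noncomputable def C6 : List (List ℤ) :=
  [[0, 1, -4, 3, 0, 4, -1, -3, 5, 0, 0, -4, 4, 0, 0, 0, 0, 0, -5, 3, 0, 0, -3, 0, -8, 0, 8], [-2, -5, -4, -9, -8, 2,
  -11, -9, -13, 0, -10, 4, -8, 0, -18, 6, 0, 18, -7, 9, 0, -8, 9, 12, -8, -16, 4], [2, -2, 6, -2, 6, -4, -4, 4, -6, 0,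
  -4, 0, 8, 0, -4, 2, 0, -2, -4, 2, -6, 0, -4, -8, 12, 0, 16], [6, 2, 10, -6, -6, 20, 4, -12, -2, 0, 12, 16, 8, 0, 12,
  6, 0, -6, -4, 6, -18, 0, 12, -24, -4, -24, -8]]

/-- four columns -/
noncomputable def C7 : List (List ℤ) :=
  [[0, 3, 0, -3, 0, 0, -3, 3, 3, 0, 0, 0, 0, 0, 0, 0, 0, 0, -3, -3, 0, 0, 3, 0, 0, 0, 0], [-1, 4, 3, 1, 0, -1, -1, 1,
  0, -3, -4, 0, -1, -3, 5, 8, 3, 4, -4, 5, 0, 0, -4, -2, 0, 6, -8], [3, -4, 7, 9, -12, -1, 7, 9, -8, 9, -12, -8, 11,
  9, -3, 12, -9, -12, -4, -3, 0, 0, 12, 6, -16, 6, -8], [-6, -2, -10, 6, 6, -20, -4, 12, 2, 0, -12, -16, -8, 0, -12,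
  -6, 0, 6, 4, -6, 18, 0, -12, 24, 4, 24, 8]]

/-- four columns -/
noncomputable def C8 : List (List ℤ) :=
  [[-2, -14, -22, 18, 10, 20, 52, -36, -58, 0, -28, -32, -8, 0, 36, -66, 0, 18, -124, -18, 54, 64, 36, -24, 100, -16,
  -32], [-3, 4, -7, -9, 12, 1, -7, -9, 8, -9, 12, 8, -11, -9, 3, -12, 9, 12, 4, 3, 0, 0, -12, -6, 16, -6, 8], [-11, 4,
  -31, -9, -44, -79, 25, -9, -40, -81, 44, -104, -35, -81, -45, 60, 81, -36, 20, -45, 0, 64, 36, -150, -80, -70, 40],
  [0, 1, 0, 1, 0, 0, 0, 0, 0, -1, 0, 1, 0, 0, -1, 0, -1, 0, 0, 0, 0, 1, 0, 0, 0, 0, 0]]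

/-- four columns -/
noncomputable def C9 : List (List ℤ) :=
  [[0, 0, 0, 0, 0, 0, 0, 0, 0, 0, 0, 0, 0, 0, 0, 0, 0, 0, 0, 0, 0, 0, 0, 0, 0, 0, 0], [0, 0, 0, 0, 0, 0, 0, 0, 0, 0,
  0, 0, 0, 0, 0, 0, 0, 0, 0, 0, 0, 0, 0, 0, 0, 0, 0], [2, 0, -2, -2, 0, 0, 2, 2, 0, 0, 0, 0, 0, -2, 0, 0, -2, 0, 0, 2,
  0, 0, 0, 0, 0, 0, 0], [-2, 0, 2, 2, 0, 0, -2, -2, 0, 0, 0, 0, 0, 2, 0, 0, 2, 0, 0, -2, 0, 0, 0, 0, 0, 0, 0]]

/-- four columns -/
noncomputable def C10 : List (List ℤ) :=
  [[-1, 2, 1, 0, -1, 1, 2, 0, 1, 0, -2, -1, -1, 0, 0, 0, 0, 0, 1, 0, 0, -1, 0, 0, 2, -2, 2], [2, -1, 1, 0, 2, 1, -1,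
  0, 1, 0, -2, -1, -1, 0, 0, 0, 0, 0, 1, 0, 0, 2, 0, 0, -1, -2, -1], [-1, -1, 1, 0, 0, 1, 0, 1, 0, -1, 1, -1, 0, 0, 0,
  0, -1, 1, 0, 0, 0, 0, 0, 0, 0, 0, 0], [1, 1, -1, 0, 0, -1, 0, -1, 0, 1, -1, 1, 0, 0, 0, 0, 1, -1, 0, 0, 0, 0, 0, 0,
  0, 0, 0]]

/-- four columns -/
noncomputable def C11 : List (List ℤ) :=
  [[-1, -1, -1, -2, -2, 1, 0, 1, 0, -1, -1, 1, 0, 2, 0, 0, 1, -1, 0, 0, 0, 2, -2, 0, 0, 0, 0], [1, 0, 0, 0, 0, 0, 0,
  0, 0, -1, 0, 0, 0, 1, 0, 0, 0, 0, 0, 0, 1, -1, 0, -1, 0, 0, 0], [1, 0, 1, 1, -2, -1, -1, 1, 0, -1, 0, 0, 1, -1, 1,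
  -2, 1, 0, 0, 1, 0, 0, 0, 2, 0, -2, 0], [3, 0, 3, -3, 0, 3, 3, -3, 0, -3, 0, 0, 3, -3, -3, 0, 3, 0, 0, -3, 0, 0, 0,
  6, 0, 6, 0]]

/-- four columns -/
noncomputable def C12 : List (List ℤ) :=
  [[-3, 0, -3, 3, 0, -3, -3, 3, 0, 3, 0, 0, -3, 3, 3, 0, -3, 0, 0, 3, 0, 0, 0, -6, 0, -6, 0], [0, 0, 0, 0, 0, 0, 0, 0,
  0, 0, 0, 0, 0, 0, 0, 0, 0, 0, 0, 0, 0, 0, 0, 0, 0, 0, 0], [2, -2, -2, 2, -2, 0, 0, 0, 2, 0, 0, 0, 0, 0, 0, 2, 0, 2,
  0, -2, -2, 0, 0, 0, 4, 0, 0], [0, 0, 0, 0, 0, 0, 0, 0, 0, 0, 0, 0, 0, 0, 0, 0, 0, 0, 0, 0, 0, 0, 0, 0, 0, 0, 0]]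

/-- four columns -/
noncomputable def C13 : List (List ℤ) :=
  [[-1, 0, -1, -1, 2, 1, 1, -1, 0, 1, 0, 0, -1, 1, -1, 2, -1, 0, 0, -1, 0, 0, 0, -2, 0, 2, 0], [-2, 2, 2, -2, 2, 0, 0,
  0, -2, 0, 0, 0, 0, 0, 0, -2, 0, -2, 0, 2, 2, 0, 0, 0, -4, 0, 0], [0, 0, 0, 0, 0, 0, 0, 0, 0, 0, 0, 0, 0, 0, 0, 0, 0,
  0, 0, 0, 0, 0, 0, 0, 0, 0, 0], [0, -1, 0, -1, 0, 0, 0, 0, 0, 1, 0, -1, 0, 0, 1, 0, 1, 0, 0, 0, 0, -1, 0, 0, 0, 0,
  0]]

/-- four columns -/
noncomputable def C14 : List (List ℤ) :=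
  [[1, 1, 1, -1, -1, -1, 0, -1, 0, 1, 1, -1, 0, 1, 0, 0, -1, 1, 0, 0, 0, 1, -1, 0, 0, 0, 0], [1, -2, -1, 0, 1, -1, -2,
  0, -1, 0, 2, 1, 1, 0, 0, 0, 0, 0, -1, 0, 0, 1, 0, 0, -2, 2, -2], [0, -1, 1, 0, 0, -1, 1, 0, 1, 0, 0, 1, -1, 0, 0, 0,
  0, 0, -1, 0, 0, 0, 0, 0, -1, 0, 1], [0, 1, -1, 0, 0, 1, -1, 0, -1, 0, 0, -1, 1, 0, 0, 0, 0, 0, 1, 0, 0, 0, 0, 0, 1,
  0, -1]]

/-- four columns -/
noncomputable def C15 : List (List ℤ) :=
  [[-2, 1, -1, 0, -2, -1, 1, 0, -1, 0, 2, 1, 1, 0, 0, 0, 0, 0, -1, 0, 0, -2, 0, 0, 1, 2, 1], [-1, 0, 0, 0, 0, 0, 0, 0,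
  0, 1, 0, 0, 0, -1, 0, 0, 0, 0, 0, 0, -1, 1, 0, 1, 0, 0, 0], [-1, -1, -1, 1, 1, 1, 0, 1, 0, -1, -1, 1, 0, -1, 0, 0,
  1, -1, 0, 0, 0, -1, 1, 0, 0, 0, 0], [56, 176, 616, 792, 1232, 2464, 3080, 5544, 6160, 7776, 9856, 11264, 12320,
  13608, 15840, 18480, 21384, 22176, 24640, 27720, 30240, 32768, 44352, 6720, 12320, 24640, 49280]]

/-- the columns -/
noncomputable def C : List (List ℤ) :=
  C0 ++ C1 ++ C2 ++ C3 ++ C4 ++ C5 ++ C6 ++ C7 ++ C8 ++ C9 ++ C10 ++ C11 ++ C12 ++ C13 ++ C14 ++ C15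

/-- the coefficients of the rows of `Fi22` -/
noncomputable def cs : List (List (ℤ × ℕ)) :=
  [[(1, 1)], [(1, 2)], [(1, 3)], [(1, 4)], [(1, 5)], [(1, 1), (1, 2), (-3, 3), (-5, 5), (1, 7), (2, 8), (5, 9), (-3,
  10), (1, 11), (-3, 12), (-1, 14), (2, 15), (-2, 16), (1, 17), (-2, 18), (1, 22), (2, 23), (-1, 25), (2, 27), (2,
  31), (-2, 36), (-2, 53)], [(-1, 4)], [(-1, 2), (1, 7)], [(1, 8)], [(-1, 1), (1, 2), (-1, 7), (1, 10)], [(1, 4), (-1,
  5), (1, 9)], [(-1, 1), (-1, 2), (2, 3), (5, 5), (-1, 7), (-2, 8), (-5, 9), (2, 10), (-1, 11), (3, 12), (1, 14), (-1,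
  15), (2, 16), (-1, 17), (2, 18), (-1, 22), (-2, 23), (1, 25), (-2, 27), (-2, 31), (2, 36), (2, 53)], [(-2, 2), (2,
  3), (-1, 4), (5, 5), (-2, 8), (-5, 9), (2, 10), (3, 12), (1, 14), (-2, 15), (2, 16), (-1, 17), (2, 18), (-1, 22),
  (-2, 23), (1, 25), (-2, 27), (-2, 31), (2, 36), (2, 53)], [(1, 1), (-2, 2), (-1, 4), (1, 5), (2, 7), (-2, 8), (-1,
  9), (2, 12), (-1, 15), (-1, 17), (1, 18), (-1, 23), (-1, 24), (1, 25), (-1, 31), (1, 32), (1, 53)], [(1, 1), (-2,
  2), (-1, 3), (-1, 4), (2, 5), (1, 7), (-3, 8), (-3, 9), (1, 10), (1, 11), (3, 12), (2, 14), (-1, 15), (-1, 17), (2,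
  18), (-1, 20), (-2, 22), (-2, 23), (1, 25), (-1, 27), (1, 28), (-1, 31), (1, 36), (1, 53)], [(-1, 8), (1, 14)],
  [(-1, 4), (1, 5), (-1, 7), (-1, 9), (1, 16)], [(2, 2), (-1, 3), (1, 4), (-5, 5), (2, 8), (5, 9), (-2, 10), (-3, 12),
  (-1, 14), (1, 15), (-2, 16), (1, 17), (-2, 18), (1, 20), (1, 22), (2, 23), (-1, 25), (2, 27), (2, 31), (-2, 36),
  (-2, 53)], [(1, 1), (1, 2), (-4, 3), (-4, 5), (1, 7), (3, 9), (-3, 10), (1, 11), (2, 15), (-3, 16), (-1, 18), (-1,
  22), (2, 27), (1, 28), (1, 31), (-1, 36), (-2, 53)], [(-1, 2), (1, 3), (-1, 4), (3, 5), (-2, 8), (-3, 9), (1, 10),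
  (2, 12), (1, 14), (-1, 15), (1, 16), (-1, 17), (1, 18), (-1, 22), (-1, 23), (1, 25), (-1, 27), (-1, 31), (1, 36),
  (1, 53)], [(-8, 2), (11, 3), (-4, 4), (18, 5), (1, 7), (-4, 8), (-15, 9), (10, 10), (-1, 11), (6, 12), (3, 14), (-8,
  15), (10, 16), (-2, 17), (5, 18), (-2, 20), (-1, 21), (-5, 23), (2, 25), (-7, 27), (-3, 28), (-5, 31), (-2, 32), (6,
  36), (1, 41), (8, 53)], [(-1, 1), (3, 2), (-2, 3), (1, 4), (-3, 5), (-1, 7), (-1, 8), (2, 9), (-2, 10), (1, 14), (2,
  15), (-3, 16), (-1, 18), (1, 20), (-1, 22), (1, 24), (1, 27), (1, 28), (1, 31), (-1, 36), (-2, 53)], [(-3, 2), (2,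
  3), (6, 5), (-2, 8), (-7, 9), (3, 10), (4, 12), (1, 14), (-2, 15), (2, 16), (-1, 17), (3, 18), (-1, 20), (-2, 22),
  (-3, 23), (1, 25), (-3, 27), (1, 28), (-3, 31), (3, 36), (3, 53)], [(-1, 1), (2, 2), (1, 4), (-1, 5), (-2, 7), (2,
  8), (1, 9), (-1, 12), (1, 15), (1, 17), (-1, 18), (1, 23), (1, 24), (-1, 25), (1, 31), (-1, 32), (-1, 53)], [(-1,
  5), (-1, 12), (1, 17)], [(1, 2), (-1, 3), (1, 4), (-2, 5), (1, 8), (3, 9), (-1, 10), (-1, 12), (-1, 14), (1, 15),
  (-1, 16), (-1, 18), (1, 21), (1, 22), (1, 23), (-1, 25), (1, 27), (1, 31), (-1, 36), (-1, 53)], [(-1, 1), (2, 2),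
  (2, 3), (-2, 5), (-1, 7), (2, 8), (4, 9), (-1, 11), (-4, 12), (-2, 14), (1, 16), (1, 17), (-2, 18), (1, 20), (3,
  22), (3, 23), (-1, 24), (-1, 25), (1, 27), (-2, 28), (2, 31), (1, 32), (-2, 36), (-1, 53)]]

/-- the coefficients of the product -/
noncomputable def ks : List ℤ :=
  [0, 0, 0, 0, 0, -1, 1, 0, 0, -1, -1, 2, 2, 2, 2, 0, 1, -2, 1, 2, 2, 0, 2, -2, 0, -2, -2]

/-- the norms -/
noncomputable def ms : List (ℕ × ℕ) :=
  [(1, 0), (1, 0), (1, 0), (1, 0), (1, 0), (1, 0), (1, 0), (1, 0), (1, 0), (1, 0), (1, 0), (1, 0), (1, 0), (1, 0), (1,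
  0), (1, 0), (1, 0), (1, 0), (1, 0), (1, 0), (1, 0), (1, 0), (1, 0), (2, 0), (2, 0), (2, 0), (2, 0)]

/-- the degrees -/
noncomputable def bL : List ℤ :=
  [56, 176, 616, 792, 1232, 2464, 3080, 5544, 6160, 7776, 9856, 11264, 12320, 13608, 15840, 18480, 21384, 22176,
  24640, 27720, 30240, 32768, 44352, 3360, 6160, 12320, 24640]

/-- one class of each pair -/
noncomputable def tL : List ℕ :=
  [0, 3, 5, 6, 7, 8, 10, 13, 17, 18, 19, 20, 21, 22, 27, 30, 35, 38, 40, 41, 42, 45, 46, 47, 50, 56, 58]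

/-- the numbers of elements -/
noncomputable def DX : Dat := ⟨64, 18393661440, cL, cL, List.replicate 64 []⟩

/-- the type in `Fi22` -/
noncomputable def aT (t : ℕ) : ℕ := (iT t + 1) % 59

/-- the odd part of a row -/
noncomputable def od (u : List ℤ) (t : ℕ) : ℤ := (nth u (aT t) - nth u (aT (pr t))) / 2

/-- the rows of `Fi22` -/
noncomputable def RF : List (List ℤ) := rowA ++ rowB

/-- the product -/
noncomputable def pd (t : ℕ) : ℤ := (nth (ntd RF [] 1) (aT t) + -1 * od (ntd RF [] 1) t) * od (ntd RF [] 2) t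

theorem od_ok : ∀ i < 3, ∀ t < 64, 2 * od (ntd RF [] i) t = nth (ntd RF [] i) (aT t) - nth (ntd RF [] i) (aT (pr t)) := by
  decide +kernel

/-- the check of a row -/
noncomputable def chkR (P : List ℤ) (j : ℕ) : Bool :=
  frcLZ (comb RF (ntd cs [] j)) fun u => allL (fun t =>
    decide (2 * (rw C j t - nth ks j * nth P t) = nth u (aT t) - nth u (aT (pr t))) && decide (rw C j (pr t) = -rw C j t))
    (List.range 64)

private noncomputable def _root_.Cfsg.Agent.LsF.f4e2d01_2 : {f // @Cfsg.Agent.MO.S.U62.RF = f} := ⟨_, by first | (delta Cfsg.Agent.MO.S.U62.RF; rewrite [Cfsg.Agent.LsF.lappend_pat]; exact rfl) | exact rfl⟩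
private noncomputable def _root_.Cfsg.Agent.LsF.f4e2d01_3 : {f // @Cfsg.Agent.MO.S.U62.aT = f} := ⟨_, by first | (delta Cfsg.Agent.MO.S.U62.aT; rewrite [Cfsg.Agent.LsF.nadd_pat, Cfsg.Agent.LsF.nmod_pat]; exact rfl) | exact rfl⟩
private noncomputable def _root_.Cfsg.Agent.LsF.f4e2d01_4 : {f // @Cfsg.Agent.MO.S.U62.od = f} := ⟨_, by first | (delta Cfsg.Agent.MO.S.U62.od; rewrite [Cfsg.Agent.LsF.f4e2d01_3.2, Cfsg.Agent.LsF.isub_pat]; exact rfl) | exact rfl⟩
private noncomputable def _root_.Cfsg.Agent.LsF.f4e2d01_5 : {f // @Cfsg.Agent.MO.S.U62.pd = f} := ⟨_, by first | (delta Cfsg.Agent.MO.S.U62.pd; rewrite [Cfsg.Agent.LsF.f4e2d01_2.2, Cfsg.Agent.LsF.f4e2d01_3.2, Cfsg.Agent.LsF.f4e2d01_4.2, Cfsg.Agent.LsF.iadd_pat, Cfsg.Agent.LsF.imul_pat, Cfsg.Agent.LsF.ineg_pat]; exact rfl) | exact rfl⟩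
private noncomputable def _root_.Cfsg.Agent.LsF.f4e2d01_6 : {f // @Cfsg.Agent.TAB.Eng.allL = f} := ⟨_, by first | (delta Cfsg.Agent.TAB.Eng.allL; rewrite [Cfsg.Agent.LsF.cond_eq]; exact rfl) | exact rfl⟩
private noncomputable def _root_.Cfsg.Agent.LsF.f4e2d01_7 : {f // @Cfsg.Agent.TAB.Eng.addL = f} := ⟨_, by first | (delta Cfsg.Agent.TAB.Eng.addL; rewrite [Cfsg.Agent.LsF.iadd_eq]; exact rfl) | exact rfl⟩
private noncomputable def _root_.Cfsg.Agent.LsF.f4e2d01_8 : {f // @Cfsg.Agent.TAB.Eng.comb = f} := ⟨_, by first | (delta Cfsg.Agent.TAB.Eng.comb; rewrite [Cfsg.Agent.LsF.f4e2d01_7.2, Cfsg.Agent.LsF.map_eq, Cfsg.Agent.LsF.imul_eq]; exact rfl) | exact rfl⟩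
private noncomputable def _root_.Cfsg.Agent.LsF.f4e2d01_9 : {f // @Cfsg.Agent.MO.S.U62.C = f} := ⟨_, by first | (delta Cfsg.Agent.MO.S.U62.C; rewrite [Cfsg.Agent.LsF.lappend_pat]; exact rfl) | exact rfl⟩
private noncomputable def _root_.Cfsg.Agent.LsF.f4e2d01_10 : {f // @Cfsg.Agent.MO.S.U62.chkR = f} := ⟨_, by first | (delta Cfsg.Agent.MO.S.U62.chkR; rewrite [Cfsg.Agent.LsF.f4e2d01_8.2, Cfsg.Agent.LsF.f4e2d01_2.2, Cfsg.Agent.LsF.f4e2d01_6.2, Cfsg.Agent.LsF.f4e2d01_9.2, Cfsg.Agent.LsF.f4e2d01_3.2, Cfsg.Agent.LsF.imul_pat, Cfsg.Agent.LsF.isub_pat, Cfsg.Agent.LsF.ineg_pat, Cfsg.Agent.LsF.and_eq, Cfsg.Agent.LsF.range_eq, Cfsg.Agent.LsF.instIDecEq_eq, Cfsg.Agent.LsF.decide_eq]; exact rfl) | exact rfl⟩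
theorem chkR_ok : (frcLZ ((List.range 64).map pd) fun P => allL (chkR P) (List.range 27)) = true := by ((try (rewrite [Cfsg.Agent.LsF.f4e2d01_5.2, Cfsg.Agent.LsF.f4e2d01_6.2, Cfsg.Agent.LsF.f4e2d01_10.2, Cfsg.Agent.LsF.map_eq, Cfsg.Agent.LsF.range_eq])); decide +kernel)

private noncomputable def _root_.Cfsg.Agent.LsF.f4e2d01_11 : {f // @Cfsg.Agent.TAB.Eng.sqs = f} := ⟨_, by first | (delta Cfsg.Agent.TAB.Eng.sqs; rewrite [Cfsg.Agent.LsF.iadd_eq, Cfsg.Agent.LsF.imul_eq]; exact rfl) | exact rfl⟩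
private noncomputable def _root_.Cfsg.Agent.LsF.f4e2d01_12 : {f // @Cfsg.Agent.TAB.Eng.qsum = f} := ⟨_, by first | (delta Cfsg.Agent.TAB.Eng.qsum; rewrite [Cfsg.Agent.LsF.f4e2d01_11.2, Cfsg.Agent.LsF.iadd_eq, Cfsg.Agent.LsF.imul_eq]; exact rfl) | exact rfl⟩
private noncomputable def _root_.Cfsg.Agent.LsF.f4e2d01_13 : {f // @Cfsg.Agent.TAB.Eng.hor = f} := ⟨_, by first | (delta Cfsg.Agent.TAB.Eng.hor; rewrite [Cfsg.Agent.LsF.iadd_eq, Cfsg.Agent.LsF.imul_eq]; exact rfl) | exact rfl⟩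
private noncomputable def _root_.Cfsg.Agent.LsF.f4e2d01_14 : {f // @Cfsg.Agent.TAB.Eng.gRow = f} := ⟨_, by first | (delta Cfsg.Agent.TAB.Eng.gRow; rewrite [Cfsg.Agent.LsF.and_eq, Cfsg.Agent.LsF.not_eq, Cfsg.Agent.LsF.cond_eq]; exact rfl) | exact rfl⟩
private noncomputable def _root_.Cfsg.Agent.LsF.f4e2d01_15 : {f // @Cfsg.Agent.TAB.Eng.cmpG = f} := ⟨_, by first | (delta Cfsg.Agent.TAB.Eng.cmpG; rewrite [Cfsg.Agent.LsF.f4e2d01_13.2, Cfsg.Agent.LsF.f4e2d01_14.2, Cfsg.Agent.LsF.cond_eq, Cfsg.Agent.LsF.imul_eq, Cfsg.Agent.LsF.instIDecEq_eq, Cfsg.Agent.LsF.decide_eq]; exact rfl) | exact rfl⟩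
private noncomputable def _root_.Cfsg.Agent.LsF.f4e2d01_16 : {f // @Cfsg.Agent.TAB.Eng.axz = f} := ⟨_, by first | (delta Cfsg.Agent.TAB.Eng.axz; rewrite [Cfsg.Agent.LsF.iadd_eq, Cfsg.Agent.LsF.imul_eq]; exact rfl) | exact rfl⟩
private noncomputable def _root_.Cfsg.Agent.LsF.f4e2d01_17 : {f // @Cfsg.Agent.TAB.Eng.accV = f} := ⟨_, by first | (delta Cfsg.Agent.TAB.Eng.accV; rewrite [Cfsg.Agent.LsF.f4e2d01_13.2, Cfsg.Agent.LsF.f4e2d01_16.2, Cfsg.Agent.LsF.imul_eq]; exact rfl) | exact rfl⟩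
private noncomputable def _root_.Cfsg.Agent.LsF.f4e2d01_18 : {f // @Cfsg.Agent.TAB.Eng.chkG = f} := ⟨_, by first | (delta Cfsg.Agent.TAB.Eng.chkG; rewrite [Cfsg.Agent.LsF.f4e2d01_6.2, Cfsg.Agent.LsF.f4e2d01_12.2, Cfsg.Agent.LsF.f4e2d01_15.2, Cfsg.Agent.LsF.f4e2d01_17.2, Cfsg.Agent.LsF.iadd_pat, Cfsg.Agent.LsF.imul_pat, Cfsg.Agent.LsF.icast_pat, Cfsg.Agent.LsF.and_eq, Cfsg.Agent.LsF.map_eq, Cfsg.Agent.LsF.idecLt_eq, Cfsg.Agent.LsF.length_eq, Cfsg.Agent.LsF.decide_eq]; exact rfl) | exact rfl⟩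
private noncomputable def _root_.Cfsg.Agent.LsF.f4e2d01_19 : {f // @Cfsg.Agent.MO.S.U62.DX = f} := ⟨_, by first | (delta Cfsg.Agent.MO.S.U62.DX; rewrite [Cfsg.Agent.LsF.replicate_eq]; exact rfl) | exact rfl⟩
theorem chkG_ok : chkG DX C ms 2 (10 ^ 30) = true := by ((try (rewrite [Cfsg.Agent.LsF.f4e2d01_18.2, Cfsg.Agent.LsF.f4e2d01_19.2, Cfsg.Agent.LsF.f4e2d01_9.2, Cfsg.Agent.LsF.npow_pat])); decide +kernel)

theorem row_ok {j t : ℕ} (hj : j < 27) (ht : t < 64) : 2 * (rw C j t - nth ks j * pd t) =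
    nth (comb RF (ntd cs [] j)) (aT t) - nth (comb RF (ntd cs [] j)) (aT (pr t)) ∧ rw C j (pr t) = -rw C j t := by
  have h := chkR_ok
  rw [frcLZ_eq] at h
  have h1 := allL_spec h j (List.mem_range.2 hj)
  rw [chkR, frcLZ_eq] at h1
  have h2 := allL_spec h1 t (List.mem_range.2 ht)
  rwa [Bool.and_eq_true, decide_eq_true_eq, decide_eq_true_eq, nth_eq (List.map _ _),
    List.getD_eq_getElem _ _ (by simpa using ht), List.getElem_map, List.getElem_range] at h2

/-! ### virtual characters -/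

/-- the function on the group -/
noncomputable def fX (v : ℕ → ℤ) : X → ℂ := fun x => v (ix x)

/-- a virtual character -/
def VX (v : ℕ → ℤ) : Prop := IsGeneralizedCharacter X (fX v)

theorem ix_z (x : X) : ix (z * x) = pr (ix x) := by rw [← mem_center_iff.1 z_mem, ix_mul]

theorem vx_res {u : List ℤ} (h : Virt td (nth u)) : VX fun t => nth u (aT t) := by
  have h1 : (fX fun t => nth u (aT t)) = fun x : X => (nth u (td.ty x) : ℂ) :=
    funext fun x => by rw [fX, aT, ← ty_ix]; rfl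
  rw [VX, h1]
  exact h.on X

theorem VX.add {v w : ℕ → ℤ} (h : VX v) (h' : VX w) : VX fun t => v t + w t := by
  have h1 := isGeneralizedCharacter_add h h'
  rwa [show fX v + fX w = fX fun t => v t + w t from funext fun _ => (Int.cast_add _ _).symm] at h1

theorem VX.mul {v w : ℕ → ℤ} (h : VX v) (h' : VX w) : VX fun t => v t * w t := by
  have h1 := isGeneralizedCharacter_mul h h'
  rwa [show fX v * fX w = fX fun t => v t * w t from funext fun _ => (Int.cast_mul _ _).symm] at h1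

theorem VX.smul {v : ℕ → ℤ} (h : VX v) (c : ℤ) : VX fun t => c * v t := VX.mul (v := fun _ => c) (gen_const X c) h

theorem VX.odd {v w : ℕ → ℤ} (h : VX v) (e : ∀ t < 64, 2 * w t = v t - v (pr t)) : VX w := by
  have := finX
  have := Fintype.ofFinite X
  have h1 := gen_odd z_mem zz h
  rwa [show (fun x => (fX v x - fX v (z * x)) / 2) = fX w from funext fun x => by
    rw [fX, fX, fX, ix_z, ← Int.cast_sub, ← e _ (ix_lt x), Int.cast_mul, Int.cast_ofNat, mul_div_cancel_left₀ _ two_ne_zero]]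
    at h1

theorem virt_RF : ∀ r ∈ RF, Virt td (nth r) :=
  have := TAB.F22.fin22
  TAB.Sz.slp TAB.F22.mass rfl TAB.F22.hom TAB.F22.ops TAB.F22.virt_seeds TAB.F22.ix TAB.F22.ops_chk

theorem vx_row {j : ℕ} (hj : j < 27) : VX (rw C j) := by
  have h := fun i => vx_res (Virt.ntd virt_RF i)
  have h1 : VX pd := ((h 1).add (((h 1).odd (od_ok 1 (by norm_num))).smul (-1))).mul ((h 2).odd (od_ok 2 (by norm_num)))
  have h2 := ((vx_res (Virt.comb virt_RF (ntd cs [] j))).odd fun t ht => (row_ok hj ht).1).add (h1.smul (nth ks j))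
  simpa only [sub_add_cancel] using h2

theorem odd_row {j : ℕ} (hj : j < 27) (x : X) : fX (rw C j) (z * x) = -fX (rw C j) x := by
  rw [fX, fX, ix_z, (row_ok hj (ix_lt x)).2, Int.cast_neg]

theorem inner_row [Fintype X] {i j : ℕ} (hi : i < 27) (hj : j < 27) :
    classInner (fX (rw C i)) (fX (rw C j)) = (gam (mF ms) (sF ms) i j : ℤ) := by
  have h1 := congrArg (Int.cast : ℤ → ℂ) ((gram_of_chkG ⟨rfl, rfl, rfl⟩ chkG_ok).2 i hi j hj)
  rw [classInner_def, inv_mul_eq_iff_eq_mul₀ card_ne_zero_complex, card_X]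
  simp only [fX, map_intCast]
  rw [sum_ix fun t => (rw C i t : ℂ) * (rw C j t : ℂ)]
  rw [ipF] at h1
  push_cast at h1
  refine Eq.trans (Finset.sum_congr rfl fun t ht => ?_) h1
  rw [nsmul_eq_mul, (by decide +kernel : ∀ t < 64, H123.Cls.nth cL t = DX.cnt t) t (mem_range.1 ht)]

theorem ix_one : ix 1 = 63 :=
  (by decide +kernel : ∀ t < 64, 0 = (iT t + 1) % 59 → t = 63) _ (ix_lt 1) (TAB.F22.ty_one.symm.trans (ty_ix 1))

theorem z_ne : z ≠ 1 := fun h => by
  have h1 := ix_mul 1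
  rw [h, mul_one, ix_one] at h1
  exact absurd h1 (by decide +kernel)

/-! ### the enumeration -/

variable {l : X → ℂ}

theorem fl_z (hl : Fl X l) : l z = -1 := by
  obtain ⟨μ, h2, h3⟩ := hl
  have h5 : l z * l z = 1 := by
    rw [h3 ⟨z, z_mem⟩, ← Units.val_mul, ← map_mul, show (⟨z, z_mem⟩ * ⟨z, z_mem⟩ : center X) = 1 from Subtype.ext zz,
      map_one, Units.val_one]
  exact (mul_self_eq_one_iff.1 h5).resolve_left fun h6 => z_ne (congrArg Subtype.val (h2 (a₁ := ⟨z, z_mem⟩) (a₂ := 1)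
    (Units.ext (by rw [← h3, map_one, Units.val_one]; exact h6))))

theorem enum [Fintype X] (hc : Nat.card (center X) = 2) (hl : Fl X l) :
    ∃ iy, En (center X) l 27 0 (mF ms) (sF ms) (nth bL) (fun j => fX (rw C j)) iy := by
  have he : ∀ j, fX (rw C j) 1 = rw C j 63 := fun j => by rw [fX, ix_one]
  obtain ⟨μ, h1, hμ⟩ := id hl
  refine enum_cov le_rfl μ hμ ⟨by decide +kernel, by decide +kernel, fun _ h => absurd h (Nat.not_lt_zero _),
    fun _ h => absurd h (Nat.not_lt_zero _)⟩ (by decide +kernel) _ (fun j hj => vx_row hj)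
    (fun j hj => lo_two hc hl z_mem z_ne (odd_row hj)) (fun i hi j hj => inner_row hi hj) (fun j => rw C j 63)
    (fun j _ => he j) _ (by decide +kernel) (by rw [hc, card_X]; decide +kernel) fun j hj i hi _ _ a3 a4 χ s c hs hc => ?_
  have hi' := hi.trans hj
  rcases (by decide +kernel : ∀ j < 27, ∀ i < j, mF ms j = 2 → mF ms i = 2 →
    ¬ rw C j 63 + rw C i 63 ∣ 2 * (18393661440 : ℕ) ∨ ∃ t < 64, (rw C j t + rw C i t) % 2 ≠ 0) j hj i hi a3 a4 with h | ⟨t, ht, h⟩
  · refine sep_sum (vx_row hj) ?_ ?_ ?_ (he j) (he i) (card_X ▸ h) χ s c hs hc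
    · rw [inner_row hj hj, gam, if_pos rfl, a3]
      norm_num
    · rw [inner_row hi' hi', gam, if_pos rfl, a4]
      norm_num
    · rw [inner_row hj hi', (by decide +kernel : ∀ j < 27, ∀ i < j, gam (mF ms) (sF ms) j i = 0) j hj i hi, Int.cast_zero]
  · obtain ⟨x, rfl⟩ := exists_ix ht
    exact sep_par (x := x) rfl rfl h χ s c hs

theorem kk_X (hc : Nat.card (center X) = 2) (hl : Fl X l) : kk 3 ⊤ (center X) l = 18 := by
  have := finX
  have := Fintype.ofFinite X
  obtain ⟨iy, h⟩ := enum hc hl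
  rw [h.kk]
  decide +kernel

/-- the odd functions of the number of the class -/
theorem card_le [Fintype X] {ι : Type} [Fintype ι] (v : ι → X → ℂ) (hv : ∀ a x y, ix x = ix y → v a x = v a y)
    (ho : ∀ a x, v a (z * x) = -v a x) (h : ∀ a b, a ≠ b → classInner (v a) (v b) = 0)
    (h0 : ∀ a, classInner (v a) (v a) ≠ 0) : Fintype.card ι ≤ 27 := by
  choose r hr using fun k : Fin 27 => exists_ix ((by decide +kernel : ∀ k < 27, H123.Cls.nth tL k < 64) k k.2)
  have hl : LinearIndependent ℂ fun a k => v a (r k) := by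
    rw [Fintype.linearIndependent_iff]
    intro c hc b
    obtain ⟨F, hF⟩ : ∃ F, F = ∑ a, c a • v a := ⟨_, rfl⟩
    have h1 : ∀ x, F x = ∑ a, c a * v a x := fun x => by rw [hF, Finset.sum_apply]; rfl
    have h2 : ∀ x y, ix x = ix y → F x = F y := fun x y e => by simp only [h1, hv _ x y e]
    have h3 : ∀ x, F (z * x) = -F x := fun x => by simp only [h1, ho, mul_neg, Finset.sum_neg_distrib]
    have h4 : ∀ k, F (r k) = 0 := fun k => by
      simpa only [h1, Finset.sum_apply, Pi.smul_apply, smul_eq_mul, Pi.zero_apply] using congrFun hc k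
    have h5 : F = 0 := funext fun x => by
      rcases (by decide +kernel : ∀ t < 64, pr t = t ∨ ∃ k : Fin 27, t = H123.Cls.nth tL k ∨ pr t = H123.Cls.nth tL k)
        _ (ix_lt x) with e | ⟨k, e | e⟩
      · exact self_eq_neg.1 ((h2 _ _ ((ix_z x).trans e)).symm.trans (h3 x))
      · exact (h2 _ _ (e.trans (hr k).symm)).trans (h4 k)
      · exact neg_eq_zero.1 ((h3 x).symm.trans ((h2 _ _ ((ix_z x).trans (e.trans (hr k).symm))).trans (h4 k)))
    have h6 := classInner_sum_left Finset.univ (fun a => c a • v a) (v b)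
    rw [← hF, h5, classInner_zero_left, Finset.sum_eq_single b (fun a _ e => by rw [classInner_smul_left, h a b e, mul_zero])
      fun e => absurd (Finset.mem_univ _) e, classInner_smul_left] at h6
    exact (mul_eq_zero.1 h6.symm).resolve_right (h0 b)
  simpa only [_root_.ge_iff_le, _root_.Module.finrank_fintype_fun_eq_card, _root_.Fintype.card_fin] using hl.fintype_card_le_finrank

theorem fA_X (hc : Nat.card (center X) = 2) (hl : Fl X l) : fA 3 l ga = 12 := by
  have := finX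
  have := Fintype.ofFinite X
  obtain ⟨iy, h⟩ := enum hc hl
  rw [h.fA 3 ga (fun y => mF ms y = 1) fun χ _ => ?_]
  · decide +kernel
  have hy : iy χ < 27 := h.lt χ
  obtain ⟨h1, h2⟩ := (by decide +kernel : ∀ y < 27, (mF ms y = 1 ∨ mF ms y = 2) ∧ (nth bL y).sign = 1) _ hy
  refine ⟨fun h3 => h1.resolve_right fun h4 => ?_, fun h3 x => ?_⟩
  swap
  · have h4 := h.eq_row χ hy (vx_row hy) (by rw [inner_row hy hy, gam, if_pos rfl, h3]; norm_num)
    simp only [h2, Int.cast_one, one_mul] at h4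
    rw [← h4, ← h4, fX, fX, ix_ga]
  have h5 : ∀ j < 27, classInner (fX (rw C j)) (χ.1 : X → ℂ) = if j = iy χ then 1 else 0 := fun j hj => by
    rw [h.inn χ j hj, sig, if_pos hy, sdeg, if_pos hy, h2]
    split_ifs <;> simp
  have h6 : ∀ j < 27, classInner (fX (rw C j)) ((2 : ℂ) • (χ.1 : X → ℂ) - fX (rw C (iy χ))) = 0 := fun j hj => by
    rw [classInner_sub_right, classInner_smul_right, h5 j hj, inner_row hj hy, gam, map_ofNat]
    split_ifs with e e'
    · rw [e, h4]
      norm_num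
    · exact absurd ((by decide +kernel : ∀ j < 27, sF ms j = 0) j hj) e'.2
    · simp
  refine absurd (card_le (fun a : Option (Fin 27) => a.elim ((2 : ℂ) • (χ.1 : X → ℂ) - fX (rw C (iy χ))) fun j => fX (rw C j))
    ?_ ?_ ?_ ?_) (by simp)
  · rintro (_ | j) x y e
    · obtain ⟨m, e' | e'⟩ := cases_ix e <;>
        simp only [Option.elim, Pi.sub_apply, Pi.smul_apply, fX, e] <;> rw [e', isIrr_isClassFunction χ.1.2]
      rw [h3]
    · simp only [Option.elim, fX, e]
  · rintro (_ | j) x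
    · obtain ⟨c, h7, -⟩ := ODD.Red.exists_central χ.1.2 z_mem
      have h8 := h7 1
      rw [mul_one, χ.2 z z_mem, fl_z hl] at h8
      simp only [Option.elim, Pi.sub_apply, Pi.smul_apply, h7, odd_row hy, smul_eq_mul,
        ← mul_right_cancel₀ (isIrr_apply_one_ne_zero χ.1.2) h8]
      ring
    · exact odd_row j.2 x
  · rintro (_ | i) (_ | j) e
    · exact absurd rfl e
    · exact (classInner_conj_symm _ _).symm.trans ((congrArg conj (h6 j j.2)).trans (map_zero _))
    · exact h6 i i.2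
    · exact (inner_row i.2 j.2).trans (by
        rw [(by decide +kernel : ∀ i j : Fin 27, i ≠ j → gam (mF ms) (sF ms) i j = 0) i j fun e' => e (congrArg _ e'),
          Int.cast_zero])
  · rintro (_ | j)
    · change classInner (_ - _) (_ - _) ≠ 0
      rw [classInner_sub_left, h6 _ hy, classInner_smul_left, classInner_sub_right, classInner_smul_right,
        classInner_irr_self χ.1.2, ← classInner_conj_symm, h5 _ hy, if_pos rfl, map_one, map_ofNat]
      norm_num
    · exact (inner_row j.2 j.2).trans_ne (Int.cast_ne_zero.2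
        ((by decide +kernel : ∀ j < 27, gam (mF ms) (sF ms) j j ≠ 0) j j.2))

end Cfsg.Agent.MO.S.U62
end

-- part: MO/S/U62/Loc
section
/-!
# `2.U₆(2)` : the normaliser `2 × 3 ^ 4 : (S₃ ≀ 2)` of a Sylow `3`-subgroup (helper62)

* `fB_split` : a subgroup which splits over the centre;
* `loc_X` : the numbers `18` and `12`.
-/

set_option autoImplicit false
set_option maxRecDepth 100000
set_option exponentiation.threshold 5000

namespace Cfsg.Agent.MO.S.U62

open Cfsg Subgroup Cfsg.Agent.MO.T Cfsg.Agent.MO.S.Pc Cfsg.Agent.MO.L Cfsg.Agent.ODD.Red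
open Cfsg.Agent.MK.S.Pc (ev ev_mem V mem_V V_le)
open Cfsg.Agent.H123.Cls (evw)
open Cfsg.Agent.H123.Cls.FiDat (el gn_S)
open Cfsg.Agent.H494.F22 (rho rho_injective wS wS_append wS_cons wS_nil S_val N_le_A tau tau_inv)
open Cfsg.Agent.H494.F22.Dat (tabs)
open Cfsg.Agent.MK.S6 (bs rho_flip)
open Cfsg.Agent.TAB.F22 (wd)

/-- **a subgroup which splits over the centre** -/
theorem fB_split {G : Type} [Group G] [Finite G] {p : ℕ} {K L : Subgroup G} (hK : center G ≤ K) (c : K →* center G)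
    (hc : ∀ w : K, (w : G) ∈ center G → (c w : G) = w) (hL : L ≤ K) (hL' : ∀ y : K, (y : G) ∈ L ↔ c y = 1) {l : G → ℂ}
    (hl : Fl G l) {α : MulAut G} (hα : ∀ x ∈ K, α x ∈ K) (hz : ∀ w ∈ center G, α w = w)
    (h1 : ∀ y y' : K, (y' : G) = α y → c y' = c y) : fB p K l α = fN p L α := by
  obtain ⟨m, -, hm⟩ := hl
  let π : K →* L := MonoidHom.mk' (fun a => ⟨a * (c a : G)⁻¹, (hL' (a * (⟨c a, hK (c a).2⟩ : K)⁻¹)).2 (by
    rw [map_mul, map_inv, show c ⟨c a, hK (c a).2⟩ = c a from Subtype.ext (hc _ (c a).2), mul_inv_cancel])⟩)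
    fun a b => Subtype.ext (by
      change (a : G) * b * (c (a * b) : G)⁻¹ = a * (c a : G)⁻¹ * (b * (c b : G)⁻¹)
      rw [map_mul, coe_mul, mul_inv_rev, mul_assoc (a : G) (c a : G)⁻¹, ← mem_center_iff.1 (inv_mem (c a).2)]
      simp only [mul_assoc])
  have hπ : ∀ a, (π a : G) = a * (c a : G)⁻¹ := fun _ => rfl
  have hs : Function.Surjective π := fun y =>
    ⟨⟨y, hL y.2⟩, Subtype.ext (by rw [hπ, (hL' ⟨y, hL y.2⟩).1 y.2, OneMemClass.coe_one, inv_one, mul_one])⟩
  have h2 : ∀ y y' : K, (y' : G) = α y → (π y' : G) = α (π y) := fun y y' e => by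
    rw [hπ, hπ, h1 y y' e, e, map_mul, hz _ (inv_mem (c y).2)]
  have h3 : ∀ (μ : K →* ℂˣ) (χ : K → ℂ), PI p K χ → PI p K fun x => (μ x : ℂ) * χ x := fun μ χ h =>
    ⟨isIrr_lin_mul μ h.1, by
      rw [charDegree_congr (ψ := χ) (by rw [map_one, Units.val_one, one_mul])]
      exact h.2⟩
  have h4 : ∀ w : K, (w : G) ∈ center G → l w = m (c w) := fun w hw => by rw [← hm, hc w hw]
  let F : {ψ : L → ℂ // PI p L ψ ∧ ∀ y y' : L, (y' : G) = α y → ψ y' = ψ y} →
      {ψ : K → ℂ // PI p K ψ ∧ MK.Ov K (center G) l ψ ∧ ∀ y y' : K, (y' : G) = α y → ψ y' = ψ y} := fun ψ =>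
    ⟨fun x => (m.comp c x : ℂ) * ψ.1 (π x), h3 _ _ (pi_comp π hs ψ.2.1), fun w hw => by
      beta_reduce
      rw [map_one, map_one, show π w = 1 from Subtype.ext (by rw [hπ, hc w hw, mul_inv_cancel]; rfl), h4 w hw,
        Units.val_one, one_mul, MonoidHom.comp_apply], fun y y' e => by
      beta_reduce
      rw [ψ.2.2 _ _ (h2 y y' e), MonoidHom.comp_apply, h1 y y' e, MonoidHom.comp_apply]⟩
  refine (Nat.card_eq_of_bijective F ⟨fun ψ ψ' e => Subtype.ext (hs.injective_comp_right (funext fun x =>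
    mul_left_cancel₀ (m.comp c x).ne_zero (congrFun (congrArg Subtype.val e) x))), ?_⟩).symm
  rintro ⟨ψ, h5, h6, h7⟩
  have h8 := h3 (m.comp c)⁻¹ ψ h5
  obtain ⟨η, hη, he⟩ := exists_quot π hs h8.1 fun w hw => by
    have h9 : (w : G) ∈ center G := mul_inv_eq_one.1 ((hπ w).symm.trans (congrArg Subtype.val hw)) ▸ (c w).2
    rw [h6 w h9, h4 w h9]
    simp only [_root_.MonoidHom.inv_apply, _root_.MonoidHom.coe_comp, _root_.Function.comp_apply, _root_.Units.val_inv_eq_inv_val, _root_.ne_eq, _root_.Units.ne_zero, _root_.not_false_eq_true, _root_.inv_mul_cancel_left₀, _root_.map_one, _root_.inv_one, _root_.Units.val_one, _root_.one_mul]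
  refine ⟨⟨η, ⟨hη, ?_⟩, fun y y' hy => ?_⟩, Subtype.ext (funext fun x => ?_)⟩
  · rw [charDegree_congr (ψ := ψ) (by rw [← map_one π, he]; simp only [_root_.MonoidHom.inv_apply, _root_.MonoidHom.coe_comp, _root_.Function.comp_apply, _root_.map_one, _root_.inv_one, _root_.Units.val_one, _root_.one_mul])]
    exact h5.2
  · obtain ⟨x, rfl⟩ := hs y
    rw [show y' = π ⟨α x, hα x x.2⟩ from Subtype.ext (hy.trans (h2 x ⟨α x, hα x x.2⟩ rfl).symm), he, he,
      h7 x ⟨α x, hα x x.2⟩ rfl]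
    simp [h1 x ⟨α x, hα x x.2⟩ rfl]
  · change (m.comp c x : ℂ) * η (π x) = ψ x
    rw [he]
    simp

/-! ### the data -/

/-- the letters : the Sylow subgroup, the normaliser, two elements of the centraliser of the last member -/
def LW : List (List ℕ) :=
  [[7, 8, 3, 7, 4, 3, 2, 1, 2, 3, 4, 7, 5, 3, 2, 1, 8, 7, 4, 3], [2, 1], [5, 4], [1, 2, 3, 4, 3, 2, 1, 7, 8, 3, 7, 4,
  3, 2, 3, 7, 4, 3, 8, 7, 1, 2, 3, 4, 3, 2, 1, 5], [1, 2, 3, 4, 7, 5, 3, 2, 1, 8, 7, 4, 3, 7, 4, 8, 1, 2, 3, 7, 5, 4,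
  3, 2], [7, 3, 2, 8, 7, 4, 1, 2, 3, 4, 5, 4, 3, 2, 1, 3, 7, 4, 3, 2, 4, 3, 4, 1, 2, 3, 7, 5, 3, 2, 1, 8, 7, 4, 3, 7,
  1, 2, 3, 8, 7, 5, 4, 5, 4, 3, 2, 1, 8, 4, 2, 3], [5], [3, 4, 2, 3, 1, 2, 0, 5, 4, 3, 0], [2, 0, 3, 4, 5, 7, 8, 3, 4,
  7, 3, 7, 1, 2, 8, 3, 7, 4, 3, 8, 7, 4, 5, 4, 3, 2, 1, 0], [0, 1, 2, 3, 7, 4, 3, 2, 1, 5, 8, 7, 4, 8, 3, 7, 4, 3, 5,
  8, 1, 2, 3, 7, 4, 3, 1, 6, 1, 2, 3, 7, 5, 4, 2, 1, 4, 0, 2, 1, 3, 2, 7, 8, 1, 2, 3, 4, 7, 8, 3, 2, 1, 3, 7, 4, 3, 2,
  0, 8, 7, 3, 4, 6, 5, 6, 7, 0]]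

/-- the relations -/
def cert : Cert where
  pw := [[5], [], [], [], [], []]
  cm :=
    [[[], [4], [3], [5], [5], []], [[], [], [], [], [5], []], [[], [], [], [5], [], []], [[], [], [], [], [], []], [[],
    [], [], [], [], []], [[], [], [], [], [], []]]
  dv := [([], [], []), ([], [], []), ([], [], []), ([0], [2], []), ([0], [1], []), ([0], [3], [])]

/-- the chain of stabilizers -/
def lv : List (ℕ × List (List ℕ)) :=
  [(147, [[], [0, 0], [0]]), (12, [[], [1, 1], [1], [4], [1, 1, 4, 4], [1, 1, 4], [4, 4], [1, 4, 4], [1, 4]]), (0,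
  [[], [2, 3, 3], [2, 3], [3, 3, 5], [3], [2, 2, 3], [5, 5], [3, 3], [5]]), (3, [[], [2, 2], [2]])]

/-- the action of the normaliser -/
def RR : List (List (List ℕ)) :=
  [[[1, 0, 1, 2, 0, 2], [0, 1], [0, 0, 2], [0, 0, 0, 2], [0, 0, 0, 0, 1], [0, 0, 0, 0, 0, 1]], [[2, 2, 2, 2, 0, 2],
  [0, 0, 1], [0, 1], [0, 0, 0, 0, 2, 1], [0, 0, 0, 2, 0, 2], [0, 0, 0, 0, 0, 2]]]

/-- the action of the flip -/
def RG : List (List ℕ) :=
  [[1, 1, 1, 2, 2, 1], [0, 0, 2], [0, 2], [0, 0, 0, 0, 2], [0, 0, 0, 2], [0, 0, 0, 0, 0, 1]]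

/-- an orbit -/
def OO : List ℕ :=
  [6, 7, 8, 9, 64, 65, 66, 69, 70, 201, 205, 206, 207, 209, 213, 214, 230, 234, 235, 237, 242, 266, 267, 268, 281,
  283, 637]

/-- the word which conjugates the last member to the representative -/
def cw : List ℕ :=
  [8, 9, 3, 7, 4, 3, 2, 5, 6, 7, 4, 3, 7, 5, 4, 3, 2, 6, 1, 2, 3, 7, 4, 3, 2, 1, 8, 7, 5, 4, 3, 7, 4, 1, 2, 3, 7, 5,
  4, 3, 2, 1, 8, 6, 7, 9, 8]

/-- the action on the points -/
noncomputable local instance actX : MulAction X (Fin 3510) := MulAction.compHom _ (rho.comp X.subtype)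

/-- the word of a letter -/
def lw (a : ℕ) : List ℕ := LW.getD a []

/-- the action of a letter -/
noncomputable def ff (a : ℕ) : ℕ → ℕ := evw 12 tabs (lw a)

theorem lw_ok (a : ℕ) : (∀ x ∈ lw a, x < 9) ∧ ff a 1965 = 1965 := by
  rcases lt_or_ge a 10 with h | h
  · exact (by decide +kernel : ∀ a < 10, (∀ x ∈ lw a, x < 9) ∧ ff a 1965 = 1965) a h
  · rw [ff, show lw a = [] from List.getD_eq_default _ _ h]
    exact ⟨fun _ h => absurd h List.not_mem_nil, rfl⟩

theorem lw_lt (a : ℕ) : ∀ x ∈ lw a, x < 10 := fun x h => ((lw_ok a).1 x h).trans (by norm_num)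

theorem el_val (a : ℕ) (p : Fin 3510) : (rho (el (lw a)) p : ℕ) = ff a p := by
  rw [rho_el _ (lw_ok a).1, wS_val _ (lw_lt a), ff]

/-- the letters -/
noncomputable def yy (a : ℕ) : X := ⟨el (lw a), mem_X.2 (Fin.ext ((el_val a P8).trans (lw_ok a).2))⟩

theorem yy_smul (a : ℕ) (p : Fin 3510) : ((yy a • p : Fin 3510) : ℕ) = ff a p := el_val a p

theorem he : ∀ v w, eqb ff bs v w = true → ev yy v = ev yy w :=
  eqb_sound Fin.val_injective yy_smul fun _ h => Subtype.ext (rho_injective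
    ((eq_of_base (N_le_A ⟨_, rfl⟩) (one_mem _) h).trans (map_one _).symm))

theorem chk3 : Pc.chk (eqb ff bs) 3 6 3 cert = true := by decide +kernel

theorem card3 : 3 ^ 6 ≤ Nat.card (V yy 6 0) :=
  have := finX
  card_ge (ok := (Nat.blt · 3510)) (lv := lv) Fin.val_injective (fun c hc => ⟨⟨c, Nat.blt_eq ▸ hc⟩, rfl⟩)
    (fun u _ => imw_spec yy_smul u) (by decide +kernel)

/-! ### the flip -/

theorem ga_yy {j : ℕ} (hj : j < 6) : (RG.getD j []).length ≤ 6 ∧ ga (yy j) = ev yy (pwd (RG.getD j [])) := by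
  obtain ⟨h1, h2⟩ := (by decide +kernel : ∀ j < 6, (RG.getD j []).length ≤ 6 ∧
    ∀ p ∈ bs, evw 12 tabs (9 :: (lw j ++ [9])) p = imw ff (pwd (RG.getD j [])) p) j hj
  have h3 : rho (ga (yy j)) = wS (9 :: (lw j ++ [9])) := by
    rw [wS_cons, wS_append, wS_cons, wS_nil, mul_one, ← rho_el _ (lw_ok j).1, ← mul_assoc]
    exact (rho_flip _).trans (by rw [tau_inv]; rfl)
  refine ⟨h1, Subtype.ext (rho_injective (eq_of_base (N_le_A ⟨_, rfl⟩) (N_le_A ⟨_, rfl⟩) fun p hp => Fin.ext ?_))⟩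
  rw [h3, wS_val _ (List.forall_mem_cons.2 ⟨by norm_num, List.forall_mem_append.2 ⟨lw_lt j, by decide⟩⟩), h2 _ hp]
  exact (imw_spec yy_smul _ p).symm

theorem ga_Q (x : X) : ga x ∈ V yy 6 0 ↔ x ∈ V yy 6 0 :=
  have := finX
  MK.T.stab_of_le (V_le (H := (V yy 6 0).comap ga.toMonoidHom) fun _ _ hi =>
    show ga _ ∈ _ from (ga_yy hi).2 ▸ pwd_mem (ga_yy hi).1) x

/-! ### the fixed points -/

/-- a point which is fixed by the Sylow subgroup -/
def pe : Fin 3510 := ⟨146, by norm_num⟩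

theorem z_pe : ((z • pe : Fin 3510) : ℕ) = 240 := by
  change (rho d pe : ℕ) = 240
  rw [d, gn_S (by norm_num), S_val (by norm_num)]
  decide +kernel

theorem z_pe_ne : z • pe ≠ pe := fun h => absurd (z_pe.symm.trans (congrArg Fin.val h)) (by decide)

theorem smul_z (a : X) (p : Fin 3510) : a • z • p = z • a • p := by rw [← mul_smul, mem_center_iff.1 z_mem, mul_smul]

theorem z_z (p : Fin 3510) : z • z • p = p := by rw [← mul_smul, zz, one_smul]

theorem ga_pe (a : X) : ga a • pe = pe ↔ a • pe = pe := by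
  have h : tau pe = pe := Fin.ext ((S_val (by norm_num) pe).trans (by decide +kernel))
  change rho (H833.Flip.flipA a) pe = pe ↔ rho a pe = pe
  rw [rho_flip, tau_inv, Equiv.Perm.mul_apply, Equiv.Perm.mul_apply, h]
  exact ⟨fun e => tau.injective (e.trans h.symm), fun e => (congrArg tau e).trans h⟩

/-- the stabilizer of a pair of points -/
def SP : Subgroup X where
  carrier := {a | a • pe = pe ∨ a • pe = z • pe}
  one_mem' := Or.inl (one_smul _ _)
  mul_mem' := by
    rintro a b (ha | ha) (hb | hb)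
    · exact Or.inl (by rw [mul_smul, hb, ha])
    · exact Or.inr (by rw [mul_smul, hb, smul_z, ha])
    · exact Or.inr (by rw [mul_smul, hb, ha])
    · exact Or.inl (by rw [mul_smul, hb, smul_z, ha, z_z])
  inv_mem' := by
    rintro a (ha | ha)
    · exact Or.inl (by rw [inv_smul_eq_iff, ha])
    · exact Or.inr (by rw [inv_smul_eq_iff, smul_z, ha, z_z])

theorem yy_pe {i : ℕ} (hi : i < 8) : yy i ∈ MulAction.stabilizer X pe :=
  Fin.ext ((yy_smul i pe).trans ((by decide +kernel : ∀ i < 8, ff i 146 = 146) i hi))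

theorem Q_le : V yy 6 0 ≤ MulAction.stabilizer X pe := V_le fun _ _ hi => yy_pe (by omega)

private noncomputable def _root_.Cfsg.Agent.LsF.f4e2d01_20 : {f // @Cfsg.Agent.MO.S.U62.lw = f} := ⟨_, by first | (delta Cfsg.Agent.MO.S.U62.lw; rewrite [Cfsg.Agent.LsF.getD_eq]; exact rfl) | exact rfl⟩
private noncomputable def _root_.Cfsg.Agent.LsF.f4e2d01_21 : {f // @Cfsg.Agent.MO.S.U62.ff = f} := ⟨_, by first | (delta Cfsg.Agent.MO.S.U62.ff; rewrite [Cfsg.Agent.LsF.f4e2d01_20.2]; exact rfl) | exact rfl⟩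
theorem fix_ok : TAB.Eng.allL (fun p => !(Nat.beq (ff 1 p) p && Nat.beq (ff 2 p) p && Nat.beq (ff 0 p) p) ||
    Nat.beq p 1965 || Nat.beq p 146 || Nat.beq p 240) (List.range 3510) = true := by ((try (rewrite [Cfsg.Agent.LsF.f4e2d01_6.2, Cfsg.Agent.LsF.f4e2d01_21.2, Cfsg.Agent.LsF.and_eq, Cfsg.Agent.LsF.or_eq, Cfsg.Agent.LsF.not_eq, Cfsg.Agent.LsF.range_eq])); decide +kernel)

theorem N_le : normalizer (V yy 6 0 : Set X) ≤ SP := fun a ha => by
  have h1 : ∀ i < 6, ff i (a • pe : Fin 3510) = (a • pe : Fin 3510) := fun i hi => by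
    have h1 : (a⁻¹ * yy i * a⁻¹⁻¹) • pe = pe := Q_le ((mem_normalizer_iff.1 (inv_mem ha) _).1 (mem_V (Nat.zero_le _) hi))
    rw [inv_inv, mul_smul, mul_smul, inv_smul_eq_iff] at h1
    rw [← yy_smul, h1]
  have h2 := TAB.Eng.allL_spec fix_ok _ (List.mem_range.2 (a • pe).2)
  simp only [h1 0 (by norm_num), h1 1 (by norm_num), h1 2 (by norm_num), Nat.beq_refl, Bool.and_self, Bool.not_true,
    Bool.false_or, Bool.or_eq_true, Nat.beq_eq] at h2
  rcases h2 with (h2 | h2) | h2
  · have h3 : a • pe = a • P8 := (Fin.ext h2 : a • pe = P8).trans (mem_X.1 a.2).symm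
    exact absurd (smul_left_cancel a h3) (by decide)
  · exact Or.inl (Fin.ext h2)
  · exact Or.inr (Fin.ext (h2.trans z_pe.symm))

/-! ### the order of the normaliser -/

theorem ix_yy : ix (yy 5) = 6 := by
  have h1 : ∀ x ∈ cw, x < 10 := by decide
  have h2 := eq10_ok (v := wd (iT 6) ++ cw) (w := cw ++ lw 5)
    (List.forall_mem_append.2 ⟨wd_lt' (lt_ok 6 (by norm_num)).1, h1⟩) (List.forall_mem_append.2 ⟨h1, lw_lt 5⟩)
    (by decide +kernel)
  rw [wS_append, wS_append, ← rho_rp (lt_ok 6 (by norm_num)).1, ← rho_el _ (lw_ok 5).1] at h2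
  exact ix_eq (by norm_num) ⟨wS cw, wS_mem _ h1, eq_mul_inv_of_mul_eq h2,
    Fin.ext ((wS_val _ h1 _).trans (by decide +kernel))⟩

theorem card_cent : Nat.card (centralizer ({yy 5} : Set X)) = 93312 := by
  have := finX
  have h1 := TAB.Eng.card_class (yy 5)
  have h2 : ga (yy 5) = yy 5 := (ga_yy (by norm_num)).2.trans (mul_one _)
  rw [card_X, Nat.card_congr (Equiv.subtypeEquivRight (q := fun x => ix x = 6) fun x => ⟨fun h => by
    obtain ⟨m, rfl⟩ := isConj_iff.1 h
    rw [ix_conj, ix_yy], fun h => by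
    obtain ⟨m, e | e⟩ := cases_ix (ix_yy.trans h.symm)
    exacts [isConj_iff.2 ⟨m, e.symm⟩, isConj_iff.2 ⟨m, h2 ▸ e.symm⟩]⟩), card_ix (by norm_num),
    show H123.Cls.nth cL 6 = 197120 by decide +kernel] at h1
  omega

theorem card_N (Q : Sylow 3 X) (hQ : (Q : Subgroup X) = V yy 6 0) :
    Nat.card (normalizer ((Q : Subgroup X) : Set X)) ≤ 11664 := by
  have := finX
  obtain ⟨K, hK⟩ : ∃ K, K = normalizer (zpowers (yy 5) : Set X) := ⟨_, rfl⟩
  have h1 : normalizer ((Q : Subgroup X) : Set X) ≤ K := by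
    rw [hQ, hK, ← PC.last (n := 6) 5 rfl]
    exact norm_low he chk3 (k := 3) (by decide) (norm_comm he chk3)
  have h2 : Nat.card K ∣ 186624 := by
    have h2 := card_zpowers_dvd (order_last (pc_of_chk he chk3) card3)
    rwa [card_cent, ← hK] at h2
  have h3 : ∀ a, eqb ff bs [a, 5] [5, a] = true → yy a ∈ K := fun a h =>
    hK ▸ mem_normalizer_zpowers (by simpa only [ev, _root_.List.map_cons, _root_.List.map_nil, _root_.List.prod_cons, _root_.List.prod_nil, _root_.mul_one] using he _ _ h)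
  have h4 : normalizer ((Q : Subgroup X) : Set X) ≤ K ⊓ SP := le_inf h1 (hQ ▸ N_le)
  have h5 := relIndex_mul_relIndex _ _ _ h4 (inf_le_left : K ⊓ SP ≤ K)
  have h6 := relIndex_modEq Q h4
  have h7 := relIndex_modEq Q h1
  have h8 : (normalizer ((Q : Subgroup X) : Set X)).relIndex (K ⊓ SP) ≠ 1 := fun e =>
    not_mem_of_chk yy_smul (n := 6) (O := OO) (c := [9]) (q := [0]) ⟨2181, by norm_num⟩ (by decide +kernel)
      (hQ ▸ relIndex_eq_one.1 e (mul_mem (show yy 9 ∈ K ⊓ SP from ⟨h3 9 (by decide +kernel),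
        Or.inl (Fin.ext ((yy_smul 9 pe).trans (by decide +kernel)))⟩) (one_mem _)))
  have h9 : (K ⊓ SP).relIndex K ≠ 1 := fun e => by
    rcases (relIndex_eq_one.1 e (h3 8 (by decide +kernel))).2 with h | h <;> replace h := congrArg Fin.val h
    · exact absurd ((yy_smul 8 pe).symm.trans h) (by decide +kernel)
    · exact absurd ((yy_smul 8 pe).symm.trans (h.trans z_pe)) (by decide +kernel)
  have h10 := ((normalizer ((Q : Subgroup X) : Set X)).subgroupOf K).card_mul_index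
  rw [Nat.card_congr (subgroupOfEquivOfLe h1).toEquiv] at h10
  have h11 := (Dvd.intro_left _ h10).trans h2
  have h12 := Nat.le_of_dvd (by norm_num) h2
  change _ * relIndex _ K = _ at h10
  change relIndex _ K ∣ _ at h11
  generalize relIndex (normalizer ((Q : Subgroup X) : Set X)) K = t at *
  generalize relIndex (normalizer ((Q : Subgroup X) : Set X)) (K ⊓ SP) = r at *
  generalize relIndex (K ⊓ SP) K = s at *
  rw [Nat.ModEq] at h6 h7
  have h13 : 4 * 2 ≤ t := h5 ▸ Nat.mul_le_mul (by omega) (by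
    rcases s with _ | s
    · omega
    · omega)
  have h14 : 16 ≤ t := by
    by_contra h
    obtain rfl | rfl : t = 10 ∨ t = 13 := by omega
    all_goals omega
  have h15 := Nat.mul_le_mul_left (Nat.card (normalizer ((Q : Subgroup X) : Set X))) h14
  omega

/-! ### the counts -/

theorem chk18 : chkM 3 3 RR (idM 3) [1, 2, 1, 2, 0, 0, 0, 0, 2, 1, 2] 8 18 = true := by decide +kernel

theorem chk12 : chkM 3 3 RR RG [1, 2, 1, 2, 0, 0, 0, 0, 2, 1, 2] 8 12 = true := by decide +kernel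

theorem mt_ga : Mt 3 (V yy 6 0) yy ga RG := fun j hj => by
  have := finX
  rw [(pc_of_chk he chk3).comm_eq, (ga_yy (hj.trans (by norm_num))).2]
  exact pwd_mod (ga_yy (hj.trans (by norm_num))).1 3

theorem loc_X (hc : Nat.card (center X) = 2) : ∃ Q : Sylow 3 X, (∀ x, ga x ∈ (Q : Subgroup X) ↔ x ∈ (Q : Subgroup X)) ∧
    ∀ l, Fl X l → fB 3 (normalizer ((Q : Subgroup X) : Set X)) l 1 = 18 ∧
      fB 3 (normalizer ((Q : Subgroup X) : Set X)) l ga = 12 := by
  classical
  have := finX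
  have h := pc_of_chk he chk3
  obtain ⟨Q, hQ⟩ := h.sylow card3 (o := 25231360) card_X (by norm_num)
  have h1 := card_N Q hQ
  refine ⟨Q, ?_⟩
  rw [hQ] at h1 ⊢
  refine ⟨ga_Q, fun l hl => ?_⟩
  obtain ⟨N, hN⟩ : ∃ N, N = normalizer (V yy 6 0 : Set X) := ⟨_, rfl⟩
  have hZ : center X ≤ N := hN ▸ center_le_normalizer _
  have hS : N ≤ SP := hN ▸ N_le
  have h2 : ∀ w ∈ center X, w = 1 ∨ w = z := fun w hw => or_iff_not_imp_left.2 fun e => by
    obtain ⟨u, -, hu⟩ := (Nat.card_eq_two_iff' (1 : center X)).1 hc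
    have h2 := (hu ⟨w, hw⟩ fun h => e (Subtype.ext_iff.1 h)).trans
      (hu ⟨z, z_mem⟩ fun h => z_pe_ne (by rw [show z = 1 from Subtype.ext_iff.1 h, one_smul])).symm
    exact Subtype.ext_iff.1 h2
  have h3 : Nat.card (N ⊓ MulAction.stabilizer X pe : Subgroup X) ≤ Nat.card (V yy 6 0) * 8 := by
    have h3 := ((N ⊓ MulAction.stabilizer X pe).subgroupOf N).card_mul_index
    have h4 : ((N ⊓ MulAction.stabilizer X pe).subgroupOf N).index ≠ 1 := fun e =>
      z_pe_ne (relIndex_eq_one.1 e (hZ z_mem)).2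
    have h5 := ((N ⊓ MulAction.stabilizer X pe).subgroupOf N).index_ne_zero_of_finite
    have h6 := Nat.mul_le_mul_left (Nat.card ((N ⊓ MulAction.stabilizer X pe).subgroupOf N))
      (show 2 ≤ ((N ⊓ MulAction.stabilizer X pe).subgroupOf N).index by omega)
    rw [h3, Nat.card_congr (subgroupOfEquivOfLe inf_le_left).toEquiv] at h6
    rw [← hN] at h1
    rw [h.card_zero card3]
    omega
  have h4 : ∀ M ∈ RR, ∃ g ∈ N ⊓ MulAction.stabilizer X pe, Mt 3 (V yy 6 0) yy (fun x => g * x * g⁻¹) M := fun M hM => by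
    obtain ⟨a, ha, h4⟩ := (by decide +kernel : ∀ M ∈ RR, ∃ a < 8, nrm (eqb ff bs) 6 [a] M = true) M hM
    have h5 : ev yy [a] ∈ MulAction.stabilizer X pe := ev_mem (List.forall_mem_singleton.2 (yy_pe ha))
    exact ⟨ev yy [a], mem_inf.2 ⟨hN ▸ nrm_mem he h4, h5⟩, mt_of_nrm he chk3 h4⟩
  have hL := loc_of_chk he chk3 (by decide) card3
  have h5 : V yy 6 0 ≤ N ⊓ MulAction.stabilizer X pe := le_inf (hN ▸ le_normalizer) Q_le
  have h6 : ∀ x, ga x ∈ N ↔ x ∈ N := hN ▸ MK.T.stab_norm ga_Q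
  let c : N →* center X := MonoidHom.mk' (fun a => if (a : X) • pe = pe then 1 else ⟨z, z_mem⟩) fun a b => by
    rcases hS a.2 with ha | ha <;> rcases hS b.2 with hb | hb <;>
      simp only [coe_mul, mul_smul, ha, hb, smul_z, z_z, z_pe_ne, if_true, if_false, one_mul, mul_one]
    exact (Subtype.ext zz).symm
  have h7 : ∀ a : N, c a = if (a : X) • pe = pe then 1 else ⟨z, z_mem⟩ := fun _ => rfl
  have h8 : ∀ α : MulAut X, (∀ x ∈ N, α x ∈ N) → α z = z → (∀ a, α a • pe = pe ↔ a • pe = pe) →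
      fB 3 N l α = fN 3 (N ⊓ MulAction.stabilizer X pe) α := fun α e1 e2 e3 =>
    fB_split hZ c (fun w hw => by
      rcases h2 _ hw with e | e
      · rw [h7, if_pos (by rw [e, one_smul]), e, OneMemClass.coe_one]
      · rw [h7, if_neg (by rw [e]; exact z_pe_ne), e]) inf_le_left (fun y => by
      rw [h7, mem_inf, and_iff_right y.2, MulAction.mem_stabilizer_iff]
      exact ⟨fun e => if_pos e, fun e => by_contra fun e' => z_pe_ne (by
        rw [show z = 1 from congrArg Subtype.val ((if_neg e').symm.trans e), one_smul])⟩) hl e1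
      (fun w hw => by
        rcases h2 _ hw with rfl | rfl
        exacts [map_one α, e2]) fun y y' e => by simp only [h7, e, e3]
  rw [← hN, h8 1 (fun _ h => h) rfl fun _ => Iff.rfl, h8 ga (fun x => (h6 x).2) (Subtype.ext flip_d) ga_pe]
  have h9 : ∀ x, ga x ∈ N ⊓ MulAction.stabilizer X pe ↔ x ∈ N ⊓ MulAction.stabilizer X pe := fun x => by
    rw [mem_inf, mem_inf, h6, MulAction.mem_stabilizer_iff, MulAction.mem_stabilizer_iff, ga_pe]
  have h10 : N ⊓ MulAction.stabilizer X pe ≤ normalizer (V yy 6 0 : Set X) := inf_le_left.trans hN.le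
  rw [fN_one, k0_of_chk hL h5 h10 h3 h4 chk18, fN_of_chk hL h5 h10 h3 h4 ga_Q h9 mt_ga chk12]
  exact ⟨rfl, rfl⟩

end Cfsg.Agent.MO.S.U62
end

-- part: MO/S/U62/Row
section
/-!
# `2.U₆(2)` : the small row for the prime `3` from the outer automorphisms (helper62)
-/

set_option autoImplicit false
set_option maxRecDepth 100000

namespace Cfsg.Agent.MO.S.U62

open Cfsg Subgroup Cfsg.Agent.MO.T
open Cfsg.Agent.H123.Cls.FiDat (gn gn_S)
open Cfsg.Agent.H494.F22 (rho S_val)

theorem facts : ∃ R, KFacts.FiTT.Facts Spor.Fi22 d (PresentedGroup.of (gn 0)) R := by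
  have h : ∀ p : Fin 3510, (rho (PresentedGroup.of (gn 0)) p : ℕ) = _ := fun p => by
    rw [gn_S (by norm_num), S_val (by norm_num)]
  refine KFacts.FiTT.facts_of_iso (MulEquiv.refl _) ⟨_, R01.Fi22Facts.gen_mem .i, rfl⟩ ⟨_, R01.Fi22Facts.gen_mem .a, rfl⟩
    (fun e => ?_) (mem_centralizer_singleton_iff.1 (mem_X.2 (Fin.ext ((h P8).trans (by decide +kernel))))).symm
  have h1 : (rho d pe : ℕ) = 240 := z_pe
  rw [e, h] at h1
  exact absurd h1 (by decide +kernel)

theorem cen_cases (w : center X) : w = 1 ∨ w = ⟨z, z_mem⟩ := by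
  obtain ⟨_, A⟩ := facts
  exact (A.cc w.1 fun y hy => congrArg Subtype.val (mem_center_iff.1 w.2
    ⟨y, mem_centralizer_singleton_iff.2 hy⟩).symm).imp (fun h => Subtype.ext (Subtype.ext h))
    fun h => Subtype.ext (Subtype.ext h)

theorem cen_ne : (⟨z, z_mem⟩ : center X) ≠ 1 := fun h => z_ne (Subtype.ext_iff.1 h)

theorem card_cen : Nat.card (center X) = 2 :=
  (Nat.card_eq_two_iff' 1).2 ⟨_, cen_ne, fun w hw => (cen_cases w).resolve_left hw⟩

theorem exists_fl : ∃ l, Fl X l := by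
  classical
  have h : (⟨z, z_mem⟩ * ⟨z, z_mem⟩ : center X) = 1 := Subtype.ext zz
  let μ : center X →* ℂˣ := MonoidHom.mk' (fun w => if w = 1 then 1 else -1) fun a b => by
    rcases cen_cases a with rfl | rfl <;> rcases cen_cases b with rfl | rfl <;>
      simp only [h, cen_ne, one_mul, mul_one, if_true, if_false, neg_mul_neg]
  refine ⟨fun x => if h : x ∈ center X then μ ⟨x, h⟩ else 0, μ, (injective_iff_map_eq_one μ).2 fun w hw => ?_,
    fun w => dif_pos w.2⟩
  by_contra e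
  exact absurd (congrArg Units.val ((if_neg e).symm.trans hw)) (by norm_num)

theorem sm_X (o : ∃ γ : MulAut X, ∀ α : MulAut X, (∀ w ∈ center X, α w = w) →
    ∃ x, α = MulAut.conj x ∨ α = MulAut.conj x * γ) : Sm 3 X := by
  have := finX
  obtain ⟨γ, hγ⟩ := o
  obtain ⟨Q, hQ, h⟩ := loc_X card_cen
  obtain ⟨y, hy | hy⟩ := hγ ga fun w hw => by
    rcases cen_cases ⟨w, hw⟩ with e | e <;> rw [show w = _ from Subtype.ext_iff.1 e]
    exacts [map_one ga, Subtype.ext flip_d]
  · obtain ⟨l, hl⟩ := exists_fl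
    have h1 := fA_X card_cen hl
    rw [hy, ← mul_one (MulAut.conj y), fA_conj_mul, fA_one, kk_X card_cen hl] at h1
    exact absurd h1 (by decide)
  refine sm_of_pair ga (fun α hα => ?_) Q hQ (fun l hl => ?_) fun l hl => ?_
  · obtain ⟨x, e | e⟩ := hγ α hα
    · exact ⟨x, Or.inl e⟩
    · exact ⟨x * y⁻¹, Or.inr (by rw [e, hy, map_mul, map_inv, mul_assoc, inv_mul_cancel_left])⟩
  · rw [← fB_one, ← fB_one]
    exact fB_eq_of_fl le_top (center_le_normalizer _) hl fun e => by rw [(h l e).1, fB_one, kk_X card_cen e]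
  · rw [← fB_top]
    exact fB_eq_of_fl le_top (center_le_normalizer _) hl fun e => by rw [(h l e).2, fB_top, fA_X card_cen e]

theorem row_of {F : Type} [Field F] [Fintype F] (hF : Fintype.card F = 4) (o : OutC 2 (PSU 6 F 2)) :
    SmC 3 2 (PSU 6 F 2) := by
  intro K _ _ φ v _
  have := finX
  obtain ⟨_, A⟩ := facts
  obtain ⟨k, _, _, hk, ⟨e⟩⟩ := A.quo
  let e' := e.trans (ChevalleyStructure.FieldIso.PSUEquiv 6 2 (FiniteField.ringEquivOfCardEq (hk.trans hF.symm)))
  let f := (QuotientGroup.quotientMulEquivOfEq v.ker.symm).trans (QuotientGroup.quotientKerEquivOfSurjective φ v.surj)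
  have := A.quasi.2
  obtain ⟨g⟩ := H277.DM.u6_cover ⟨⟨v.perf⟩, (f.trans e'.symm).isSimpleGroup⟩ A.quasi hF f e' (v.card.trans card_cen.symm)
  exact sm_congr g (sm_X (o X _ (Cv.comp ⟨QuotientGroup.mk'_surjective _, QuotientGroup.ker_mk' _, card_cen,
    isCyclic_of_prime_card card_cen, A.quasi.1.commutator_eq_top⟩ e')))

end Cfsg.Agent.MO.S.U62
end

-- part: MO/S/U62/Main
section
/-!
# `2.U₆(2)` : the field `u62_2_3` of `ExcIn` (helper62)
-/

set_option autoImplicit false

namespace Cfsg.Agent.MO.X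

open Cfsg Cfsg.Agent.MO.S

/-- **the small row of `2.U₆(2)` for the prime `3`** -/
theorem u62_2_3 : ∀ (F : Type) [Field F] [Fintype F], Fintype.card F = 4 → SmC 3 2 (PSU 6 F 2) :=
  fun _ _ _ hF => U62.row_of hF (XC.outC_u62 hF (dvd_refl 2))

end Cfsg.Agent.MO.X
end

private theorem dce_2c74ebe25f8a : _root_.True := by
  try have : _root_.True := by simp only [_root_.Cfsg.Agent.MO.S.U62.chkT.eq_1]
  try have : _root_.True := by simp only [_root_.Cfsg.Agent.MO.S.U62.chkR.eq_1]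
  try have : _root_.True := by simp only [_root_.Cfsg.Agent.MO.S.U62.mask.eq_1]
  try have : _root_.True := by simp only [_root_.Cfsg.Agent.MO.S.U62.chkI.eq_1]
  try have : _root_.True := by simp only [_root_.Cfsg.Agent.MO.S.U62.fX.eq_1]
  try have : _root_.True := by simp only [_root_.Cfsg.Agent.MO.S.U62.eq10.eq_1]
  try have : _root_.True := by simp only [_root_.Cfsg.Agent.MO.S.U62.d.eq_1]
  try have : _root_.True := by simp only [_root_.Cfsg.Agent.MO.S.U62.aT.eq_1]
  try have : _root_.True := by simp only [_root_.Cfsg.Agent.MO.S.U62.ff.eq_1]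
  try have : _root_.True := by simp only [_root_.Cfsg.Agent.MO.S.U62.VX.eq_1]
  exact _root_.True.intro
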